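import Groth.Agent.AzumayaX.Cover
import Groth.Prelude.Def_AzInv
import Mathlib.Algebra.Algebra.Shrink
import Mathlib.RingTheory.Finiteness.Small
import Mathlib.RingTheory.Henselian
import Mathlib.FieldTheory.IsSepClosed
import Mathlib.Algebra.Azumaya.Basic

/-! Azumaya algebras over strictly henselian local rings are split. -/

namespace Groth.Agent.AzInvLib

open Polynomial IsLocalRing
open scoped TensorProduct

universe u v w

theorem exists_root_of_separable {T : Type u} [CommRing T] [HenselianLocalRing T] [IsSepClosed (ResidueField T)]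
    (P : T[X]) (hP : P.Monic) (hsep : P.Separable) (hdeg : P.natDegree ≠ 0) : ∃ x, P.IsRoot x := by
  have hsep' : (P.map (residue T)).Separable := hsep.map
  have hd : (P.map (residue T)).degree ≠ 0 := by
    rw [degree_eq_natDegree (hP.map _).ne_zero, hP.natDegree_map]
    exact_mod_cast hdeg
  obtain ⟨κ, hκ⟩ := IsSepClosed.exists_root _ hd hsep'
  obtain ⟨x₀, rfl⟩ := residue_surjective κ
  rw [IsRoot, eval_map_apply] at hκ
  obtain ⟨x, hx, -⟩ := HenselianLocalRing.is_henselian P hP x₀ ((residue_eq_zero_iff _).mp hκ) (by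
    have h := hsep'.eval₂_derivative_ne_zero (RingHom.id _) (x := residue T x₀)
      (by rw [eval₂_id, eval_map_apply]; exact hκ)
    rw [eval₂_id, derivative_map, eval_map_apply] at h
    by_contra hu
    exact h ((residue_eq_zero_iff _).mpr hu))
  exact ⟨x, hx⟩

theorem exists_split_local' {T : Type u} [CommRing T] [HenselianLocalRing T] [IsSepClosed (ResidueField T)]
    {A : Type u} [Ring A] [Algebra T A] [IsAzumaya T A] {n : ℕ}
    (hA : ∀ p : PrimeSpectrum T, Module.rankAtStalk (R := T) A p = n ^ 2) (hn : 0 < n) :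
    Nonempty (A ≃ₐ[T] Matrix (Fin n) (Fin n) T) := by
  obtain ⟨f, hf, r, hr, P, hPm, hPdeg, hPsep, ⟨e⟩⟩ := AzumayaX.exists_split_near T A (maximalIdeal T)
  have hfu : IsUnit (algebraMap T T f) := notMem_maximalIdeal.mp hf
  let ι : Localization.Away f →ₐ[T] T :=
    IsLocalization.Away.liftAlgHom f (f := AlgHom.id T T) hfu
  obtain ⟨x, hx⟩ := exists_root_of_separable (P.map ι.toRingHom) (hPm.map _) hPsep.map
    (by rw [hPm.natDegree_map, hPdeg]; omega)
  rw [IsRoot, eval_map] at hx
  let ψ : AdjoinRoot P →+* T := AdjoinRoot.lift ι.toRingHom x hx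
  have hψ : ∀ c : T, ψ (algebraMap T (AdjoinRoot P) c) = c := fun c => by
    rw [IsScalarTower.algebraMap_apply T (Localization.Away f) (AdjoinRoot P)]
    exact (AdjoinRoot.lift_of _).trans (ι.commutes c)
  let ψA : AdjoinRoot P →ₐ[T] T := { ψ with commutes' := hψ }
  let eR := (AzumayaX.cancelAlg (R := T) (Localization.Away f) (AdjoinRoot P) A).symm.trans e
  have hrn : r = n := by
    haveI : Nontrivial (AdjoinRoot P) := ψ.domain_nontrivial
    obtain ⟨m, hm⟩ := Ideal.exists_maximal (AdjoinRoot P)
    have h := Module.rankAtStalk_baseChange (R := T) (M := A) (S := AdjoinRoot P) ⟨m, hm.isPrime⟩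
    rw [Module.rankAtStalk_eq_of_equiv eR.toLinearEquiv, Module.rankAtStalk_eq_finrank_of_free, hA] at h
    have h' : r ^ 2 = n ^ 2 := by simpa [Module.finrank_matrix, sq] using h
    exact Nat.pow_left_injective two_ne_zero h'
  subst hrn
  let g : A →ₐ[T] Matrix (Fin r) (Fin r) T :=
    ψA.mapMatrix.comp ((eR.toAlgHom.restrictScalars T).comp Algebra.TensorProduct.includeRight)
  let Φ : T ⊗[T] A →ₐ[T] Matrix (Fin r) (Fin r) T :=
    Algebra.TensorProduct.lift (Algebra.ofId T _) g fun t _ => Algebra.commutes t _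
  exact ⟨(Algebra.TensorProduct.lid T A).symm.trans
    (AlgEquiv.ofBijective Φ (AzumayaX.algHom_matrix_bijective' hA hn T Φ))⟩

/-- An Azumaya algebra of constant degree over a strictly henselian local ring is a matrix algebra. -/
theorem exists_split_local {T : Type u} [CommRing T] [HenselianLocalRing T] [IsSepClosed (ResidueField T)]
    {A : Type v} [Ring A] [Algebra T A] {n : ℕ} (hA : AzInv.IsAzumayaDeg T A n) (hn : 0 < n) :
    Nonempty (A ≃ₐ[T] Matrix (Fin n) (Fin n) T) := by
  haveI := hA.1
  haveI : Small.{u} A := Module.Finite.small (R := T) A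
  let σ := Shrink.algEquiv T A
  haveI : IsAzumaya T (Shrink.{u} A) := IsAzumaya.of_AlgEquiv T A _ σ.symm
  obtain ⟨e⟩ := exists_split_local' (T := T) (A := Shrink.{u} A) (n := n)
    (fun p => by rw [Module.rankAtStalk_eq_of_equiv σ.toLinearEquiv]; exact hA.2 p) hn
  exact ⟨σ.symm.trans e⟩

end Groth.Agent.AzInvLib
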