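import Groth.Agent.AzInvLib.Inner
import Groth.Agent.AzInvLib.Local
import Groth.Agent.RInvLib.Symp
import Groth.Agent.RInvLib.SqrtCover
import Mathlib.Algebra.Azumaya.Matrix
import Mathlib.Data.Matrix.Block

/-! Involutions of matrix algebras over a ring with strictly henselian fixed ring. -/

namespace Groth.Agent.AzInvLib

open Matrix Polynomial

noncomputable section

universe u v w w'

variable {H : Type u} {T : Type v} [CommRing H] [CommRing T] [Algebra H T] {L : T ≃+* T}

/-- The adjoint involution of a form. -/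
def adj (L : T ≃+* T) {ι : Type*} [Fintype ι] [DecidableEq ι] (h X : Matrix ι ι T) : Matrix ι ι T :=
  h⁻¹ * (X.map L).transpose * h

/-- An involution is the adjoint of a form of the given sign. -/
def HasSign (L : T ≃+* T) (ε : T) {A : Type w} [Ring A] [Algebra T A] (t : AzInv.LamInv T A L) : Prop :=
  ∃ (k : ℕ) (f : A ≃ₐ[T] Matrix (Fin k) (Fin k) T) (h : Matrix (Fin k) (Fin k) T),
    IsUnit h ∧ RInvLib.IsHerm L ε h ∧ ∀ a, f (t a) = adj L h (f a)

theorem hasSign_of {ε : T} {A : Type w} [Ring A] [Algebra T A] (t : AzInv.LamInv T A L) {ι : Type*} [Fintype ι]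
    [DecidableEq ι] (f : A ≃ₐ[T] Matrix ι ι T) (h : Matrix ι ι T) (hh : IsUnit h)
    (herm : RInvLib.IsHerm L ε h) (hf : ∀ a, f (t a) = adj L h (f a)) : HasSign L ε t := by
  let e := Fintype.equivFin ι
  refine ⟨_, f.trans (Matrix.reindexAlgEquiv T T e), h.submatrix e.symm e.symm,
    RInvLib.isUnit_submatrix hh e.symm, RInvLib.isHerm_of_apply fun i j => herm.apply _ _, fun a => ?_⟩
  show (f (t a)).submatrix e.symm e.symm = adj L _ ((f a).submatrix e.symm e.symm)
  rw [hf, adj, adj, Matrix.inv_submatrix_equiv, ← submatrix_map, transpose_submatrix, submatrix_mul_equiv,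
    submatrix_mul_equiv]

theorem adj_smul {ι : Type*} [Fintype ι] [DecidableEq ι] (r : T) (hr : IsUnit r) (h X : Matrix ι ι T) (hh : IsUnit h) :
    adj L (r • h) X = adj L h X := by
  obtain ⟨u, rfl⟩ := hr
  have hd : IsUnit h.det := (Matrix.isUnit_iff_isUnit_det h).mp hh
  have e : ((u : T) • h)⁻¹ = ((u⁻¹ : Tˣ) : T) • h⁻¹ := Matrix.inv_eq_left_inv (by
    rw [Matrix.smul_mul, Matrix.mul_smul, smul_smul, Matrix.nonsing_inv_mul _ hd, Units.inv_mul, one_smul])
  rw [adj, adj, e, Matrix.smul_mul, Matrix.smul_mul, Matrix.mul_smul, smul_smul, Units.inv_mul, one_smul]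

variable (hL : Function.Involutive L) (hfix : RInv.IsFixedRing H T L) [IsLocalRing H]

include hL hfix in
theorem exists_fixed_unit {x : T} (hx : L x = x) (hu : IsUnit x) : ∃ s : Hˣ, algebraMap H T s = x := by
  obtain ⟨y, hy⟩ := isUnit_iff_exists_inv.mp hu
  have hyf : L y = y := by
    have h1 : x * L y = 1 := by
      calc x * L y = L x * L y := by rw [hx]
        _ = 1 := by rw [← map_mul, hy, map_one]
    calc L y = (x * y) * L y := by rw [hy, one_mul]
      _ = (x * L y) * y := by ring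
      _ = y := by rw [h1, one_mul]
  obtain ⟨s, hs⟩ := (hfix.2 x).mp hx
  obtain ⟨t, ht⟩ := (hfix.2 y).mp hyf
  exact ⟨Units.mkOfMulEqOne s t (hfix.1 (by rw [map_mul, hs, ht, hy, map_one])), hs⟩

section Henselian

variable {H : Type u} [CommRing H] [HenselianLocalRing H] [IsSepClosed (IsLocalRing.ResidueField H)]

theorem exists_sqrt_of_two (h2 : IsUnit (2 : H)) (x : H) (hx : IsUnit x) : ∃ y, y * y = x := by
  obtain ⟨i, hi⟩ := hx.exists_left_inv
  obtain ⟨j, hj⟩ := h2.exists_left_inv
  obtain ⟨y, hy⟩ := exists_root_of_separable (X ^ 2 - C x) (monic_X_pow_sub_C _ two_ne_zero)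
    ⟨C (-i), C (i * j) * X, by
      have e1 : C (i * x) = (1 : H[X]) := by rw [hi, map_one]
      have e2 : C (j * 2) = (1 : H[X]) := by rw [hj, map_one]
      simp only [derivative_sub, derivative_X_pow, derivative_C, sub_zero, map_neg, map_mul, Nat.cast_ofNat,
        Nat.add_one_sub_one, pow_one] at e1 e2 ⊢
      linear_combination e1 + C i * X ^ 2 * e2⟩
    (by rw [natDegree_X_pow_sub_C]; omega)
  exact ⟨y, by rw [IsRoot, eval_sub, eval_pow, eval_X, eval_C, sub_eq_zero] at hy; rw [← sq, hy]⟩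

theorem exists_idem_of_isUnit_sub [Algebra H T] (hL : Function.Involutive L) (hfix : RInv.IsFixedRing H T L) {r : T}
    (hr : IsUnit (r - L r)) : ∃ e : T, e * e = e ∧ L e = 1 - e := by
  obtain ⟨t, ht⟩ := RInvLib.exists_trace hL hfix r
  obtain ⟨N, hN⟩ := RInvLib.exists_norm hL hfix r
  have hD : algebraMap H T (t * t - 4 * N) = (r - L r) * (r - L r) := by
    rw [map_sub, map_mul, map_mul, map_ofNat, ht, hN]; ring
  obtain ⟨D, hDs⟩ := exists_fixed_unit hL hfix (x := (r - L r) * (r - L r))
    (by rw [map_mul, map_sub, hL]; ring) (hr.mul hr)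
  have hDe : (D : H) = t * t - 4 * N := hfix.1 (hDs.trans hD.symm)
  obtain ⟨i, hi⟩ := D.isUnit.exists_left_inv
  obtain ⟨α, hα⟩ := exists_root_of_separable (X ^ 2 + (C (-t) * X + C N))
    (monic_X_pow_add (degree_linear_le.trans_lt (by norm_num)))
    ⟨C (-4 * i), C i * (2 * X - C t), by
      have e1 : C (i * (t * t - 4 * N)) = (1 : H[X]) := by rw [← hDe, hi, map_one]
      simp only [derivative_add, derivative_X_pow, derivative_C, derivative_mul, derivative_X, map_neg, map_mul,
        map_sub, map_ofNat, Nat.cast_ofNat, Nat.add_one_sub_one, pow_one] at e1 ⊢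
      linear_combination e1⟩
    (by
      rw [natDegree_add_eq_left_of_natDegree_lt]
      · simp
      · rw [natDegree_X_pow]; exact (natDegree_linear_le).trans_lt (by norm_num))
  have hαe : α * α - t * α + N = 0 := by
    rw [IsRoot, eval_add, eval_add, eval_pow, eval_mul, eval_X, eval_C, eval_C] at hα
    linear_combination hα
  have hαβ : (2 * α - t) * (2 * α - t) * i = 1 := by
    linear_combination hi + 4 * i * hαe - i * hDe
  obtain ⟨γ, hγ⟩ : ∃ γ, γ = algebraMap H T ((2 * α - t) * i) := ⟨_, rfl⟩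
  have hγ' : γ * (2 * algebraMap H T α - algebraMap H T t) = 1 := by
    have := congrArg (algebraMap H T) hαβ
    simp only [map_mul, map_sub, map_ofNat, map_one] at this
    rw [hγ, map_mul, map_sub, map_mul, map_ofNat]
    linear_combination this
  have hαT := congrArg (algebraMap H T) hαe
  simp only [map_add, map_sub, map_mul, map_zero] at hαT
  refine ⟨(r - algebraMap H T t + algebraMap H T α) * γ, ?_, ?_⟩
  · rw [ht, hN] at hαT
    rw [ht] at hγ' ⊢
    linear_combination (-(γ * γ)) * hαT + (r - (r + L r) + algebraMap H T α) * γ * hγ'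
  · have hLγ : L γ = γ := by rw [hγ]; exact RInvLib.lam_algebraMap hfix _
    rw [map_mul, map_add, map_sub, RInvLib.lam_algebraMap hfix, RInvLib.lam_algebraMap hfix, hLγ]
    rw [ht] at hγ' ⊢
    linear_combination hγ'

theorem idem_or_ramified [Algebra H T] (hL : Function.Involutive L) (hfix : RInv.IsFixedRing H T L) :
    (∃ e : T, e * e = e ∧ L e = 1 - e) ∨ ∀ x, L x - x ∈ Ring.jacobson T := by
  by_cases hc : ∀ x, L x - x ∈ Ring.jacobson T
  · exact Or.inr hc
  push Not at hc
  obtain ⟨x, hx⟩ := hc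
  obtain ⟨r, hr⟩ : ∃ r, IsUnit (r - L r) :=
    ⟨_, RInvLib.exists_isUnit_sub_of_notMem_jacobson hL hfix hx⟩
  exact Or.inl (exists_idem_of_isUnit_sub hL hfix hr)

end Henselian

include hL hfix in
theorem nontrivial_of_fixed : Nontrivial T := ⟨⟨1, 0, fun h => one_ne_zero (hfix.1 (by rw [map_one, map_zero, h]))⟩⟩

variable {ι : Type w} [Fintype ι] [DecidableEq ι]

include hL hfix in
/-- Automorphisms of matrix algebras are inner. -/
theorem exists_conj [Nonempty ι] (ψ : Matrix ι ι T ≃ₐ[T] Matrix ι ι T) :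
    ∃ l : Matrix ι ι T, IsUnit l ∧ ∀ X, ψ X * l = l * X := by
  haveI : IsAzumaya T (Matrix ι ι T) := IsAzumaya.matrix T ι
  obtain ⟨g, l, b, b', hg, hl, hlb, -⟩ := exists_intertwiner_near (R := T) (A := Matrix ι ι T) hL hfix ψ (IsLocalRing.maximalIdeal H)
  obtain ⟨g', hg'⟩ := (IsLocalRing.notMem_maximalIdeal.mp hg).exists_right_inv
  refine ⟨l, IsUnit.of_mul_eq_one (b * algebraMap H (Matrix ι ι T) g') ?_, hl⟩
  rw [← Matrix.mul_assoc, hlb, ← map_mul, hg', map_one]

theorem exists_scalar_of_commute [Nonempty ι] (Z : Matrix ι ι T) (hZ : ∀ X, Z * X = X * Z) :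
    ∃ c : T, Z = c • 1 := by
  haveI : IsAzumaya T (Matrix ι ι T) := IsAzumaya.matrix T ι
  obtain ⟨c, hc⟩ := AzumayaX.exists_algebraMap_of_central (R := T) Z hZ
  exact ⟨c, by rw [hc, Algebra.algebraMap_eq_smul_one]⟩

omit [DecidableEq ι] in
theorem map_transpose_mul (X Y : Matrix ι ι T) :
    ((X * Y).map L).transpose = (Y.map L).transpose * (X.map L).transpose := by
  rw [Matrix.map_mul, transpose_mul]

theorem map_one_transpose : ((1 : Matrix ι ι T).map L).transpose = 1 := by
  rw [Matrix.map_one _ (map_zero L) (map_one L), transpose_one]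

omit [Fintype ι] [DecidableEq ι] in
theorem map_transpose_map_transpose (hL : Function.Involutive L) (X : Matrix ι ι T) :
    (((X.map L).transpose).map L).transpose = X := by
  ext i j; simp [hL (X i j)]

include hL hfix in
/-- Involutions of matrix algebras are adjoints. -/
theorem exists_form [Nonempty ι] (t : AzInv.LamInv T (Matrix ι ι T) L) :
    ∃ (h : Matrix ι ι T) (c : T), IsUnit h ∧ L c * c = 1 ∧ (h.map L).transpose = c • h ∧
      ∀ X, t X = adj L h X := by
  let ψf : Matrix ι ι T →ₐ[T] Matrix ι ι T :=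
    { toFun := fun X => t (X.map L).transpose
      map_one' := by rw [map_one_transpose, t.map_one]
      map_mul' := fun X Y => by rw [map_transpose_mul, t.map_mul]
      map_zero' := by simp
      map_add' := fun X Y => by rw [Matrix.map_add _ (map_add L), transpose_add, t.map_add]
      commutes' := fun r => by
        rw [Algebra.algebraMap_eq_smul_one, Matrix.map_smul' _ _ _ (map_mul L), transpose_smul, map_one_transpose,
          t.map_smul, t.map_one, hL] }
  have hψ : Function.Bijective ψf := by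
    refine ⟨fun X Y e => ?_, fun Y => ⟨((t Y).map L).transpose, ?_⟩⟩
    · have e' := t.injective e
      rw [← map_transpose_map_transpose hL X, ← map_transpose_map_transpose hL Y, e']
    · show t (((t Y).map L).transpose.map L).transpose = Y
      rw [map_transpose_map_transpose hL, t.invol]
  obtain ⟨l, hl, hlX⟩ := exists_conj hL hfix (AlgEquiv.ofBijective ψf hψ)
  obtain ⟨h, hh⟩ : ∃ h : Matrix ι ι T, h = l⁻¹ := ⟨_, rfl⟩
  have hld := (Matrix.isUnit_iff_isUnit_det l).mp hl
  have hhu : IsUnit h := by rw [hh, Matrix.isUnit_nonsing_inv_iff]; exact hl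
  have hhd := (Matrix.isUnit_iff_isUnit_det h).mp hhu
  have ht : ∀ X, t X = adj L h X := fun X => by
    have e := hlX (X.map L).transpose
    rw [AlgEquiv.coe_ofBijective] at e
    change t (((X.map L).transpose).map L).transpose * l = _ at e
    rw [map_transpose_map_transpose hL] at e
    rw [adj, hh, Matrix.nonsing_inv_nonsing_inv _ hld, ← e, Matrix.mul_assoc, Matrix.mul_nonsing_inv _ hld, Matrix.mul_one]
  obtain ⟨h', hh'⟩ : ∃ h', h' = (h.map L).transpose := ⟨_, rfl⟩
  have hh'u : IsUnit h' := by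
    obtain ⟨k, hk⟩ := isUnit_iff_exists_inv.mp hhu
    refine IsUnit.of_mul_eq_one_right (k.map L).transpose ?_
    rw [hh', ← map_transpose_mul, hk, map_one_transpose]
  have hinv : ((h⁻¹).map L).transpose = h'⁻¹ := (Matrix.inv_eq_left_inv (by
    rw [hh', ← map_transpose_mul, Matrix.mul_nonsing_inv _ hhd, map_one_transpose])).symm
  have hcomm : ∀ X, (h⁻¹ * h') * X = X * (h⁻¹ * h') := fun X => by
    have e : t (t X) = X := t.invol X
    rw [ht, ht X, adj, adj, map_transpose_mul, map_transpose_mul, map_transpose_map_transpose hL, ← hh', hinv] at e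
    have h'd := (Matrix.isUnit_iff_isUnit_det h').mp hh'u
    calc (h⁻¹ * h') * X = h⁻¹ * (h' * (X * h'⁻¹)) * h * (h⁻¹ * h') := by
          rw [Matrix.mul_assoc _ h (h⁻¹ * h'), ← Matrix.mul_assoc h h⁻¹, Matrix.mul_nonsing_inv _ hhd, Matrix.one_mul]
          simp only [Matrix.mul_assoc]
          rw [Matrix.nonsing_inv_mul _ h'd, Matrix.mul_one]
      _ = X * (h⁻¹ * h') := by rw [e]
  obtain ⟨c, hc⟩ := exists_scalar_of_commute _ hcomm
  have hh'c : h' = c • h := by
    calc h' = h * (h⁻¹ * h') := by rw [← Matrix.mul_assoc, Matrix.mul_nonsing_inv _ hhd, Matrix.one_mul]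
      _ = c • h := by rw [hc, Matrix.mul_smul, Matrix.mul_one]
  refine ⟨h, c, hhu, ?_, hh' ▸ hh'c, ht⟩
  have e : h = L c • (c • h) := by
    conv_lhs => rw [← map_transpose_map_transpose hL h, ← hh', hh'c]
    rw [Matrix.map_smul' _ _ _ (map_mul L), transpose_smul, ← hh', hh'c]
  rw [smul_smul] at e
  have e2 := congrArg (fun M => M * h⁻¹) e
  simp only [Matrix.mul_nonsing_inv _ hhd, Matrix.smul_mul] at e2
  have e3 := congrFun (congrFun e2 (Classical.arbitrary ι)) (Classical.arbitrary ι)
  simpa using e3.symm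

/-- The conditions under which forms of a given sign are classified. -/
def Good (L : T ≃+* T) (ι : Type w) [Fintype ι] (ε : T) : Prop :=
  ((∃ e : T, e * e = e ∧ L e = 1 - e) ∧ ε = 1) ∨
    ((∀ x, L x - x ∈ Ring.jacobson T) ∧ ((IsUnit (2 : T) ∧ (ε = 1 ∨ ε = -1)) ∨ (Odd (Fintype.card ι) ∧ ε = 1)))

theorem isHerm_smul {c r ε : T} {h : Matrix ι ι T} (hc : (h.map L).transpose = c • h) (hε : ε * (L r * c) = r) :
    RInvLib.IsHerm L ε (r • h) := by
  rw [RInvLib.IsHerm, Matrix.map_smul' _ _ _ (map_mul L), transpose_smul, hc, smul_smul, smul_smul, mul_assoc, hε]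

include hL hfix in
/-- Every involution of a matrix algebra has a sign. -/
theorem exists_sign [Nonempty ι]
    (hcase : (∃ e : T, e * e = e ∧ L e = 1 - e) ∨
      ((∀ x, L x - x ∈ Ring.jacobson T) ∧ (IsUnit (2 : T) ∨ Odd (Fintype.card ι))))
    (t : AzInv.LamInv T (Matrix ι ι T) L) :
    ∃ (ε : T) (h : Matrix ι ι T), Good L ι ε ∧ IsUnit h ∧ RInvLib.IsHerm L ε h ∧ ∀ X, t X = adj L h X := by
  obtain ⟨h, c, hh, hcc, hc, ht⟩ := exists_form hL hfix t
  suffices key : ∃ ε r, Good L ι ε ∧ IsUnit r ∧ ε * (L r * c) = r by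
    obtain ⟨ε, r, hg, hr, hε⟩ := key
    exact ⟨ε, r • h, hg, by
      rw [Matrix.isUnit_iff_isUnit_det, det_smul]
      exact (hr.pow _).mul ((Matrix.isUnit_iff_isUnit_det h).mp hh), isHerm_smul hc hε,
      fun X => by rw [ht, adj_smul r hr h X hh]⟩
  rcases hcase with ⟨e, he, hLe⟩ | ⟨hid, hcase⟩
  · refine ⟨1, e * c + (1 - e), Or.inl ⟨⟨e, he, hLe⟩, rfl⟩, IsUnit.of_mul_eq_one (e * L c + (1 - e)) ?_, ?_⟩
    · linear_combination e * hcc + ((L c * c - L c - c + 1)) * he
    · rw [map_add, map_mul, map_sub, map_one, hLe]; linear_combination (1 - e) * hcc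
  haveI := RInvLib.isLocalRing_of_forall hL hfix hid
  by_cases ho : Odd (Fintype.card ι)
  · obtain ⟨k, hk⟩ := ho
    refine ⟨1, c ^ (k + 1) * h.det, Or.inr ⟨hid, Or.inr ⟨⟨k, hk⟩, rfl⟩⟩,
      ((IsUnit.of_mul_eq_one_right _ hcc).pow _).mul ((Matrix.isUnit_iff_isUnit_det h).mp hh), ?_⟩
    have hdet : L h.det = c ^ (2 * k + 1) * h.det := by
      have e := congrArg Matrix.det hc
      rw [det_transpose, det_smul, hk] at e
      rw [← e]
      exact RingHom.map_det L.toRingHom h
    rw [one_mul, map_mul, map_pow, hdet]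
    have hp : (L c * c) ^ (k + 1) = 1 := by rw [hcc, one_pow]
    rw [mul_pow] at hp
    linear_combination (c ^ (k + 1) * h.det) * hp
  have h2 := hcase.resolve_right ho
  by_cases hu : IsUnit (1 + c)
  · exact ⟨1, 1 + c, Or.inr ⟨hid, Or.inl ⟨h2, Or.inl rfl⟩⟩, hu, by rw [map_add, map_one]; linear_combination hcc⟩
  · refine ⟨-1, 1 - c, Or.inr ⟨hid, Or.inl ⟨h2, Or.inr rfl⟩⟩, ?_, by rw [map_sub, map_one]; linear_combination hcc⟩
    by_contra hu'
    exact IsLocalRing.notMem_maximalIdeal.mpr h2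
      (by convert Ideal.add_mem _ ((IsLocalRing.mem_maximalIdeal _).mpr hu) ((IsLocalRing.mem_maximalIdeal _).mpr hu') using 1; ring)

section Classify

variable (hsq : ∀ x : Hˣ, ∃ y : H, y * y = x)

theorem cg_perm (N : Matrix ι ι T) (σ : ι ≃ ι) :
    RInvLib.cg L N ((1 : Matrix ι ι T).submatrix id σ) = N.submatrix σ σ := by
  ext i j
  simp [RInvLib.cg, Matrix.mul_apply, Matrix.one_apply, apply_ite L, map_zero, map_one]

include hL hfix hsq in
theorem exists_std_pos (hg : Good L ι (1 : T)) {h : Matrix ι ι T} (hh : IsUnit h)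
    (herm : RInvLib.IsHerm L 1 h) : ∃ v, IsUnit v ∧ RInvLib.cg L h v = 1 := by
  have hcase := hg
  rcases hcase with ⟨⟨e, he, hLe⟩, -⟩ | ⟨hid, hcase⟩
  · have hd := (Matrix.isUnit_iff_isUnit_det h).mp hh
    obtain ⟨hi, hhi⟩ : ∃ hi, hi = h⁻¹ := ⟨_, rfl⟩
    have h1 : hi * h = 1 := by rw [hhi, Matrix.nonsing_inv_mul _ hd]
    have h2 : h * hi = 1 := by rw [hhi, Matrix.mul_nonsing_inv _ hd]
    have hherm : (h.map L).transpose = h := by simpa [RInvLib.IsHerm] using herm
    have hhiL : (hi.map L).transpose = hi := by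
      calc (hi.map L).transpose = (hi.map L).transpose * (h * hi) := by rw [h2, Matrix.mul_one]
        _ = ((h * hi).map L).transpose * hi := by rw [map_transpose_mul, hherm, Matrix.mul_assoc]
        _ = hi := by rw [h2, map_one_transpose, Matrix.one_mul]
    refine ⟨e • 1 + (1 - e) • hi, IsUnit.of_mul_eq_one (e • 1 + (1 - e) • h) ?_, ?_⟩
    · simp only [Matrix.add_mul, Matrix.mul_add, Matrix.smul_mul, Matrix.mul_smul, Matrix.one_mul, Matrix.mul_one,
        smul_add, smul_smul, h1]
      have z1 : (1 - e) * e = 0 := by linear_combination -he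
      have z2 : e * (1 - e) = 0 := by linear_combination -he
      have z3 : (1 - e) * (1 - e) = 1 - e := by linear_combination he
      simp only [z1, z2, z3, he, zero_smul, add_zero, zero_add, ← add_smul, add_sub_cancel, one_smul]
    · rw [RInvLib.cg, Matrix.map_add _ (map_add L), Matrix.map_smul' _ _ _ (map_mul L),
        Matrix.map_smul' _ _ _ (map_mul L), transpose_add, transpose_smul, transpose_smul, map_one_transpose, hhiL,
        map_sub, map_one, hLe, sub_sub_cancel]
      simp only [Matrix.add_mul, Matrix.mul_add, Matrix.smul_mul, Matrix.mul_smul, Matrix.one_mul, Matrix.mul_one,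
        smul_add, smul_smul, h1, h2]
      have z1 : (1 - e) * e = 0 := by linear_combination -he
      have z2 : e * (1 - e) = 0 := by linear_combination -he
      have z3 : (1 - e) * (1 - e) = 1 - e := by linear_combination he
      simp only [z1, z2, z3, he, zero_smul, add_zero, zero_add, ← add_smul, add_sub_cancel, sub_add_cancel, one_smul]
  · haveI := RInvLib.isLocalRing_of_forall hL hfix hid
    obtain ⟨v, hv, d, hd⟩ := RInvLib.exists_diagonal hL hfix (Or.inl rfl) h hh herm (by
      rcases hcase with ⟨h2, -⟩ | ⟨ho, -⟩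
      · refine Or.inr (Or.inl fun hj => IsLocalRing.notMem_maximalIdeal.mpr h2 ?_)
        rw [one_add_one_eq_two] at hj
        exact RInvLib.mem_of_mem_jacobson hj _
      · exact Or.inr (Or.inr ho))
    have hdf : ∀ i, L (d i) = d i := fun i => by
      have := (herm.cg hL v).apply i i
      rwa [hd, diagonal_apply_eq, one_mul] at this
    have hdu : ∀ i, IsUnit (d i) := by
      have := RInvLib.isUnit_cg L hh hv
      rw [hd, Matrix.isUnit_diagonal] at this
      exact fun i => this.apply i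
    choose s hs using fun i => exists_fixed_unit hL hfix (hdf i) (hdu i)
    choose y hy using fun i => hsq (s i)
    have hyu : ∀ i, IsUnit (algebraMap H T (y i)) := fun i => by
      refine isUnit_of_mul_isUnit_left (y := algebraMap H T (y i)) ?_
      rw [← map_mul, hy i, hs i]; exact hdu i
    choose z hz using fun i => (hyu i).exists_left_inv
    have hzL : ∀ i, L (z i) = z i := fun i => by
      calc L (z i) = (z i * algebraMap H T (y i)) * L (z i) := by rw [hz, one_mul]
        _ = z i * (L (z i) * L (algebraMap H T (y i))) := by rw [RInvLib.lam_algebraMap hfix]; ring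
        _ = z i := by rw [← map_mul, hz, map_one, mul_one]
    refine ⟨v * diagonal z, hv.mul (Matrix.isUnit_diagonal.mpr (_root_.Pi.isUnit_iff.mpr fun i =>
      IsUnit.of_mul_eq_one _ (hz i))), ?_⟩
    rw [RInvLib.cg_mul, hd, RInvLib.cg, diagonal_map (map_zero L), diagonal_transpose, diagonal_mul_diagonal,
      diagonal_mul_diagonal, ← diagonal_one]
    congr 1
    funext i
    have := hy i
    have e := congrArg (algebraMap H T) this
    rw [map_mul, hs i] at e
    rw [hzL, ← e]
    linear_combination (z i * algebraMap H T (y i) + 1) * hz i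

include hL hfix hsq in
theorem exists_std_neg (hid : ∀ x, L x - x ∈ Ring.jacobson T) (h2 : IsUnit (2 : T)) {h : Matrix ι ι T}
    (hh : IsUnit h) (herm : RInvLib.IsHerm L (-1) h) :
    ∃ (k : ℕ) (e : ι ≃ Fin 2 × Fin k) (v : Matrix ι ι T), IsUnit v ∧
      RInvLib.cg L h v = (blockDiagonal fun _ : Fin k => !![(0 : T), 1; -1, 0]).submatrix e e := by
  haveI := RInvLib.isLocalRing_of_forall hL hfix hid
  obtain ⟨k, e₀, v, hv, hspec⟩ := RInvLib.exists_symplectic hL hfix hid h2 (Fintype.card ι) ι h le_rfl hh herm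
  obtain ⟨e, hee⟩ : ∃ e : ι ≃ Fin 2 × Fin k, e = e₀.trans (Equiv.prodComm _ _) := ⟨_, rfl⟩
  obtain ⟨G, hGdef⟩ : ∃ G, G = RInvLib.cg L h v := ⟨_, rfl⟩
  let K : Fin k → Matrix (Fin 2) (Fin 2) T := fun p => Matrix.of fun a b => G (e.symm (a, p)) (e.symm (b, p))
  have hG : G = (blockDiagonal K).submatrix e e := by
    ext i j
    rw [submatrix_apply, blockDiagonal_apply]
    by_cases hp : (e i).2 = (e j).2
    · rw [if_pos hp]
      show G i j = G (e.symm ((e i).1, (e i).2)) (e.symm ((e j).1, (e i).2))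
      conv_rhs => arg 2; rw [hp]
      simp
    · rw [if_neg hp, hGdef]
      exact (hspec i j).1 fun he => hp (by rw [hee]; simpa using he)
  have hblock : ∀ p, ∃ w : Matrix (Fin 2) (Fin 2) T, IsUnit w ∧ RInvLib.cg L (K p) w = !![(0 : T), 1; -1, 0] := by
    intro p
    have hsk : ∀ a b, L (K p a b) = -K p b a := fun a b => by
      show L (G _ _) = -G _ _
      have := (herm.cg hL v).apply (e.symm (b, p)) (e.symm (a, p))
      rw [← hGdef] at this
      rw [← this, neg_one_mul, neg_neg]
    have hJ : ∀ a b, K p a b - !![(0 : T), 1; -1, 0] a b ∈ IsLocalRing.maximalIdeal T := fun a b => by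
      have hs := (hspec (e.symm (a, p)) (e.symm (b, p))).2 (by simp [hee])
      have hb : ∀ c : Fin 2, (e₀ (e.symm (c, p))).2 = c := fun c => by simp [hee]
      rw [hb, hb, ← hGdef] at hs
      exact RInvLib.mem_of_mem_jacobson hs _
    have hβu : IsUnit (K p 0 1) := by
      refine IsLocalRing.notMem_maximalIdeal.mp fun hm => ?_
      have h01 := hJ 0 1
      simp only [of_apply, cons_val_zero, cons_val_one] at h01
      exact IsLocalRing.notMem_maximalIdeal.mpr isUnit_one (by convert Ideal.sub_mem _ hm h01 using 1; ring)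
    obtain ⟨β, hβ⟩ := hβu.exists_right_inv
    obtain ⟨m, hm⟩ : ∃ m, m = 1 + K p 0 0 * (L β * K p 1 1 * β) := ⟨_, rfl⟩
    have hmL : L m = m := by rw [hm]; simp only [map_add, map_one, map_mul, hL β, hsk]; ring
    have hmu : IsUnit m := by
      refine IsLocalRing.notMem_maximalIdeal.mp fun hm' => ?_
      have h00 := hJ 0 0
      simp only [of_apply, cons_val_zero, sub_zero] at h00
      refine IsLocalRing.notMem_maximalIdeal.mpr (isUnit_one (M := T)) ?_
      convert Ideal.sub_mem _ hm' (Ideal.mul_mem_left _ (L β * K p 1 1 * β) h00) using 1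
      rw [hm]; ring
    obtain ⟨s, hs⟩ := exists_fixed_unit hL hfix hmL hmu
    obtain ⟨y, hy⟩ := hsq s
    obtain ⟨Xr, hXr, hX1⟩ : ∃ Xr : T, (∃ y', Xr = algebraMap H T y' ∧ y' * y' = (s : H)) ∧ IsUnit (1 + Xr) := by
      by_cases hu : IsUnit (1 + algebraMap H T y)
      · exact ⟨_, ⟨y, rfl, hy⟩, hu⟩
      · refine ⟨algebraMap H T (-y), ⟨-y, rfl, by rw [neg_mul_neg, hy]⟩, ?_⟩
        by_contra hu'
        exact IsLocalRing.notMem_maximalIdeal.mpr h2
          (by convert Ideal.add_mem _ ((IsLocalRing.mem_maximalIdeal _).mpr hu) ((IsLocalRing.mem_maximalIdeal _).mpr hu') using 1; rw [map_neg]; ring)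
    obtain ⟨y', rfl, hy'⟩ := hXr
    have hsqT : algebraMap H T y' * algebraMap H T y' = m := by rw [← map_mul, hy', hs]
    have hfixed : ∀ x z : T, L x = x → z * x = 1 → L z = z := fun x z hx hzx => by
      calc L z = (z * x) * L z := by rw [hzx, one_mul]
        _ = z * (L z * L x) := by rw [hx]; ring
        _ = z := by rw [← map_mul, hzx, map_one, mul_one]
    obtain ⟨w, hw⟩ := hX1.exists_left_inv
    obtain ⟨x', hx'⟩ := (isUnit_of_mul_isUnit_left (hsqT ▸ hmu) : IsUnit (algebraMap H T y')).exists_left_inv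
    obtain ⟨half, hhalf⟩ := h2.exists_left_inv
    obtain ⟨V, hV, hVe⟩ := RInvLib.exists_congr_std L.toRingHom (a := K p 0 0) (b := K p 0 1) (c := K p 1 0)
      (d := K p 1 1) (X := algebraMap H T y') (w := w) (x' := x') (half := half) (β := β)
      (hsk 0 0) (hsk 1 1) (show K p 1 0 = -L (K p 0 1) by rw [hsk 0 1, neg_neg]) hβ (hsqT.trans hm)
      (RInvLib.lam_algebraMap hfix _) hw
      (hfixed _ w (by rw [map_add, map_one, RInvLib.lam_algebraMap hfix]) hw)
      hx' (hfixed _ x' (RInvLib.lam_algebraMap hfix _) hx') hhalf (hfixed _ half (map_ofNat L 2) hhalf) (hL β)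
    refine ⟨V, hV, ?_⟩
    rw [← hVe, RInvLib.cg]
    congr 2
    exact (Matrix.eta_fin_two (K p))
  choose W hW hWe using hblock
  have hWu : IsUnit (blockDiagonal W) := by
    choose W' hW' using fun p => isUnit_iff_exists_inv.mp (hW p)
    exact IsUnit.of_mul_eq_one (blockDiagonal W') (by rw [← blockDiagonal_mul, funext hW']; exact blockDiagonal_one)
  refine ⟨k, e, v * (blockDiagonal W).submatrix e e, hv.mul (RInvLib.isUnit_submatrix hWu e), ?_⟩
  rw [RInvLib.cg_mul, ← hGdef, hG, RInvLib.cg_submatrix]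
  congr 1
  rw [RInvLib.cg, blockDiagonal_map _ _ (map_zero L), blockDiagonal_transpose, ← blockDiagonal_mul, ← blockDiagonal_mul]
  congr 1
  funext p
  exact hWe p

include hL hfix hsq in
/-- Forms of the same sign and size are congruent. -/
theorem exists_cg_eq {ε : T} (hg : Good L ι ε) {h h' : Matrix ι ι T} (hh : IsUnit h) (hh' : IsUnit h')
    (herm : RInvLib.IsHerm L ε h) (herm' : RInvLib.IsHerm L ε h') :
    ∃ v, IsUnit v ∧ RInvLib.cg L h v = h' := by
  suffices key : ∃ v v' : Matrix ι ι T, IsUnit v ∧ IsUnit v' ∧ RInvLib.cg L h v = RInvLib.cg L h' v' by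
    obtain ⟨v, v', hv, hv', e⟩ := key
    have hd' := (Matrix.isUnit_iff_isUnit_det v').mp hv'
    refine ⟨v * v'⁻¹, hv.mul ((Matrix.isUnit_nonsing_inv_iff).mpr hv'), ?_⟩
    rw [RInvLib.cg_mul, e, ← RInvLib.cg_mul, Matrix.mul_nonsing_inv _ hd', RInvLib.cg_one]
  have hpos : ε = 1 → ∃ v v' : Matrix ι ι T, IsUnit v ∧ IsUnit v' ∧ RInvLib.cg L h v = RInvLib.cg L h' v' := by
    rintro rfl
    obtain ⟨v, hv, e⟩ := exists_std_pos hL hfix hsq hg hh herm
    obtain ⟨v', hv', e'⟩ := exists_std_pos hL hfix hsq hg hh' herm'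
    exact ⟨v, v', hv, hv', e.trans e'.symm⟩
  rcases hg with ⟨-, he⟩ | ⟨hid, ⟨h2, he | rfl⟩ | ⟨-, he⟩⟩
  · exact hpos he
  · exact hpos he
  · obtain ⟨k, e, v, hv, E⟩ := exists_std_neg hL hfix hsq hid h2 hh herm
    obtain ⟨k', e', v', hv', E'⟩ := exists_std_neg hL hfix hsq hid h2 hh' herm'
    have hk : k = k' := by
      have c1 := Fintype.card_congr e
      have c2 := Fintype.card_congr e'
      simp only [Fintype.card_prod, Fintype.card_fin] at c1 c2
      omega
    subst hk
    let σ : ι ≃ ι := e.trans e'.symm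
    refine ⟨v, v' * (1 : Matrix ι ι T).submatrix id σ, hv, hv'.mul ?_, ?_⟩
    · rw [Matrix.isUnit_iff_isUnit_det, Matrix.det_permute', det_one, mul_one]
      exact ((Equiv.Perm.sign σ).isUnit).map (Int.castRingHom T)
    · rw [RInvLib.cg_mul, E, E', cg_perm, submatrix_submatrix]
      congr 1 <;> funext i <;> simp [σ]
  · exact hpos he

end Classify

end

end Groth.Agent.AzInvLib
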