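import Groth.Agent.Hensel.Henselization
import Groth.Agent.Hensel.Colim
import Groth.Agent.RInvLib.StrictHensel
import Mathlib.FieldTheory.IsAlgClosed.AlgebraicClosure
import Mathlib.LinearAlgebra.TensorProduct.RightExactness
import Mathlib.LinearAlgebra.DirectSum.Finsupp

/-! The strictly henselian ring of a geometric point and descent of elements of tensor products. -/

namespace Groth.Agent.AzInvLib

open Polynomial IsLocalRing
open scoped TensorProduct
open Hensel

noncomputable section

universe u v w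

variable {S : Type u} [CommRing S] {L : Type u} [Field L] [Algebra S L]

instance nontrivial_pt : Nontrivial (Henz S L) :=
  (Henz.proj S L).toRingHom.domain_nontrivial

instance isLocalRing_pt : IsLocalRing (Henz S L) :=
  .of_nonunits_add fun a b ha hb => by
    simp only [mem_nonunits_iff, Henz.isUnit_iff, isUnit_iff_ne_zero, not_not] at ha hb ⊢
    rw [map_add, ha, hb, add_zero]

theorem maximalIdeal_pt : maximalIdeal (Henz S L) = RingHom.ker (Henz.proj S L) := by
  ext x
  rw [IsLocalRing.mem_maximalIdeal, mem_nonunits_iff, Henz.isUnit_iff, isUnit_iff_ne_zero, not_not,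
    RingHom.mem_ker]

instance henselianLocalRing_pt : HenselianLocalRing (Henz S L) :=
  have : HenselianRing (Henz S L) (maximalIdeal (Henz S L)) := by
    rw [maximalIdeal_pt]; exact Henz.henselianRing
  henselianLocalRing_of_henselianRing _

/-- The residue field as a subfield of `L`. -/
def residueEmb : ResidueField (Henz S L) →+* L :=
  Ideal.Quotient.lift _ (Henz.proj S L).toRingHom fun a ha => by
    rw [maximalIdeal_pt] at ha; exact ha

theorem residueEmb_residue (x : Henz S L) : residueEmb (residue _ x) = Henz.proj S L x := rfl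

instance isSepClosed_pt [IsAlgClosed L] : IsSepClosed (ResidueField (Henz S L)) :=
  IsSepClosed.of_exists_root _ fun g hgm hg hgs => by
    have hg' : g ∈ lifts (residue (Henz S L)) :=
      (mem_lifts g).mpr (map_surjective _ residue_surjective g)
    obtain ⟨f, hf, -, hfm⟩ := lifts_and_natDegree_eq_and_monic hg' hgm
    have hev : ∀ q : (Henz S L)[X], ∀ κ : L, q.eval₂ (Henz.proj S L).toRingHom κ =
        (q.map (residue _)).eval₂ residueEmb κ := fun q κ => by
      rw [eval₂_map]; rfl
    obtain ⟨κ, hκ⟩ := IsAlgClosed.exists_root (g.map residueEmb)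
      (by rw [degree_map]; exact (degree_pos_of_irreducible hg).ne')
    rw [IsRoot, eval_map] at hκ
    obtain ⟨a, ha, -⟩ := Henz.exists_root_proj f hfm κ (by rw [hev, hf]; exact hκ) (by
      rw [hev, ← derivative_map, hf, ← eval_map, ← derivative_map]
      refine isUnit_iff_ne_zero.mpr ?_
      exact (hgs.map (f := residueEmb)).eval₂_derivative_ne_zero (RingHom.id L)
        (by simpa [eval₂_id, eval_map] using hκ))
    refine ⟨residue _ a, ?_⟩
    rw [← hf, eval_map_apply]
    exact (congrArg (residue _) ha).trans (map_zero _)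

/-- A geometric point over every prime. -/
theorem exists_point (p : Ideal S) [p.IsPrime] :
    ∃ (L : Type u) (_ : Field L) (_ : Algebra S L), IsAlgClosed L ∧
      RingHom.ker (algebraMap S L) = p := by
  refine ⟨AlgebraicClosure p.ResidueField, inferInstance,
    ((algebraMap p.ResidueField _).comp (algebraMap S p.ResidueField)).toAlgebra, inferInstance, ?_⟩
  ext x
  show algebraMap p.ResidueField (AlgebraicClosure p.ResidueField) (algebraMap S p.ResidueField x) = 0 ↔ x ∈ p
  rw [map_eq_zero, Ideal.algebraMap_residueField_eq_zero]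

theorem mem_range_comap_nbhd (N : Nbhd S L) (p : PrimeSpectrum S) (hp : RingHom.ker (algebraMap S L) = p.asIdeal) :
    p ∈ Set.range (PrimeSpectrum.comap (algebraMap S N.B)) := by
  refine ⟨⟨RingHom.ker N.toK, RingHom.ker_isPrime _⟩, PrimeSpectrum.ext ?_⟩
  rw [← hp, PrimeSpectrum.comap_asIdeal]
  ext x
  simp [RingHom.mem_ker]

section Descent

variable {M : Type v} [AddCommGroup M] [Module S M]

/-- The map on tensor products from a neighbourhood. -/
def toPt (M : Type v) [AddCommGroup M] [Module S M] (N : Nbhd S L) : N.B ⊗[S] M →ₗ[S] Henz S L ⊗[S] M :=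
  (Henz.ofB N).toLinearMap.rTensor M

theorem toPt_comp {N P : Nbhd S L} (α : N.B →ₐ[S] P.B) (hα : P.toK.comp α = N.toK) (x : N.B ⊗[S] M) :
    toPt M P (α.toLinearMap.rTensor M x) = toPt M N x := by
  rw [toPt, toPt, ← LinearMap.rTensor_comp_apply, ← AlgHom.comp_toLinearMap, Henz.ofB_comp α hα]

/-- Refinements of two neighbourhoods. -/
theorem exists_lift (x : Henz S L ⊗[S] M) : ∃ (N : Nbhd S L) (y : N.B ⊗[S] M), toPt M N y = x := by
  induction x using TensorProduct.induction_on with
  | zero => exact ⟨Classical.arbitrary _, 0, map_zero _⟩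
  | tmul h m =>
    obtain ⟨N, b, rfl⟩ := Henz.exists_ofB h
    exact ⟨N, b ⊗ₜ m, by simp [toPt]⟩
  | add x y hx hy =>
    obtain ⟨N, a, rfl⟩ := hx
    obtain ⟨N', b, rfl⟩ := hy
    obtain ⟨P, α, β, hα, hβ⟩ := N.exists_hom₂ N'
    exact ⟨P, α.toLinearMap.rTensor M a + β.toLinearMap.rTensor M b,
      by rw [map_add, toPt_comp α hα, toPt_comp β hβ]⟩

/-- A finite family of elements comes from one neighbourhood refining a given one. -/
theorem exists_lift_family {κ : Type w} [Finite κ] (N₀ : Nbhd S L) (x : κ → Henz S L ⊗[S] M) :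
    ∃ (N : Nbhd S L) (α : N₀.B →ₐ[S] N.B) (_ : N.toK.comp α = N₀.toK) (y : κ → N.B ⊗[S] M),
      ∀ k, toPt M N (y k) = x k := by
  classical
  cases nonempty_fintype κ
  suffices h : ∀ s : Finset κ, ∃ (N : Nbhd S L) (α : N₀.B →ₐ[S] N.B) (_ : N.toK.comp α = N₀.toK)
      (y : κ → N.B ⊗[S] M), ∀ k ∈ s, toPt M N (y k) = x k by
    obtain ⟨N, α, hα, y, hy⟩ := h Finset.univ
    exact ⟨N, α, hα, y, fun k => hy k (Finset.mem_univ _)⟩
  intro s
  induction s using Finset.induction with
  | empty => exact ⟨N₀, AlgHom.id S _, AlgHom.comp_id _, 0, by simp⟩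
  | insert a t _ ih =>
    obtain ⟨N, α, hα, y, hy⟩ := ih
    obtain ⟨N', z, hz⟩ := exists_lift (x a)
    obtain ⟨P, β, γ, hβ, hγ⟩ := N.exists_hom₂ N'
    refine ⟨P, β.comp α, by rw [← AlgHom.comp_assoc, hβ, hα],
      Function.update (fun k => β.toLinearMap.rTensor M (y k)) a (γ.toLinearMap.rTensor M z), fun k hk => ?_⟩
    rcases eq_or_ne k a with rfl | hne
    · rw [Function.update_self, toPt_comp γ hγ, hz]
    · rw [Function.update_of_ne hne, toPt_comp β hβ, hy k ((Finset.mem_insert.mp hk).resolve_left hne)]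

theorem exists_kill_finsupp {ι : Type w} (N : Nbhd S L) (c : ι →₀ N.B)
    (hc : ∀ i, Henz.ofB N (c i) = 0) :
    ∃ (P : Nbhd S L) (α : N.B →ₐ[S] P.B), P.toK.comp α = N.toK ∧ ∀ i, α (c i) = 0 := by
  classical
  suffices h : ∀ s : Finset ι, ∃ (P : Nbhd S L) (α : N.B →ₐ[S] P.B), P.toK.comp α = N.toK ∧ ∀ i ∈ s, α (c i) = 0 by
    obtain ⟨P, α, hα, h0⟩ := h c.support
    refine ⟨P, α, hα, fun i => ?_⟩
    by_cases hi : i ∈ c.support
    · exact h0 i hi
    · rw [Finsupp.notMem_support_iff.mp hi, map_zero]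
  intro s
  induction s using Finset.induction with
  | empty => exact ⟨N, AlgHom.id S _, AlgHom.comp_id _, by simp⟩
  | insert a t _ ih =>
    obtain ⟨P, α, hα, h0⟩ := ih
    obtain ⟨Q, β, hβ, hb⟩ := Henz.exists_of_ofB_eq_zero (N := P) (b := α (c a))
      (by rw [← AlgHom.comp_apply, Henz.ofB_comp α hα, hc])
    refine ⟨Q, β.comp α, by rw [← AlgHom.comp_assoc, hβ, hα], fun i hi => ?_⟩
    rcases Finset.mem_insert.mp hi with rfl | hi
    · exact hb
    · rw [AlgHom.comp_apply, h0 i hi, map_zero]

theorem exists_kill (N : Nbhd S L) (x : N.B ⊗[S] M) (hx : toPt M N x = 0) :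
    ∃ (P : Nbhd S L) (α : N.B →ₐ[S] P.B), P.toK.comp α = N.toK ∧ α.toLinearMap.rTensor M x = 0 := by
  classical
  let π : (M →₀ S) →ₗ[S] M := Finsupp.linearCombination S id
  have hπ : Function.Surjective π := Finsupp.linearCombination_surjective _ Function.surjective_id
  obtain ⟨x', rfl⟩ := LinearMap.lTensor_surjective N.B hπ x
  have hcomm : ∀ {P : Type u} [AddCommGroup P] [Module S P] (f : N.B →ₗ[S] P) (z : N.B ⊗[S] (M →₀ S)),
      f.rTensor M (π.lTensor N.B z) = π.lTensor P (f.rTensor _ z) := fun f z => by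
    rw [← LinearMap.comp_apply, LinearMap.rTensor_comp_lTensor, ← LinearMap.lTensor_comp_rTensor]; rfl
  rw [toPt, hcomm] at hx
  obtain ⟨k, hk⟩ := ((lTensor_exact (M := ↥(LinearMap.ker π)) (f := (LinearMap.ker π).subtype) (g := π) (Henz S L) (LinearMap.exact_subtype_ker_map π) hπ) _).mp hx
  obtain ⟨P, α, hα, k', hk'⟩ := exists_lift_family (M := LinearMap.ker π) N (fun _ : Unit => k)
  let z := α.toLinearMap.rTensor _ x' - (LinearMap.ker π).subtype.lTensor P.B (k' ())
  have hz : toPt (M →₀ S) P z = 0 := by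
    rw [map_sub, toPt_comp α hα, toPt, toPt, ← LinearMap.comp_apply ((Henz.ofB P).toLinearMap.rTensor _),
      LinearMap.rTensor_comp_lTensor, ← LinearMap.lTensor_comp_rTensor, LinearMap.comp_apply]
    have e := hk' ()
    rw [toPt] at e
    rw [e, hk, sub_self]
  obtain ⟨Q, β, hβ, hb⟩ := exists_kill_finsupp P (TensorProduct.finsuppScalarRight S S P.B M z) fun i => by
    have e := congrArg (fun w => TensorProduct.finsuppScalarRight S S (Henz S L) M w i) hz
    simp only [map_zero, Finsupp.zero_apply] at e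
    rw [← e]
    clear hz e
    induction z using TensorProduct.induction_on with
    | zero => simp
    | add a b ha hb => simp [ha, hb]
    | tmul b c => simp [toPt, map_smul]
  have hz0 : β.toLinearMap.rTensor _ z = 0 := by
    apply (TensorProduct.finsuppScalarRight S S Q.B M).injective
    ext i
    rw [map_zero, Finsupp.zero_apply, ← hb i]
    clear hb hz
    induction z using TensorProduct.induction_on with
    | zero => simp
    | add a b ha hb => simp [ha, hb]
    | tmul b c => simp [map_smul]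
  refine ⟨Q, β.comp α, by rw [← AlgHom.comp_assoc, hβ, hα], ?_⟩
  have h1 := congrArg (π.lTensor Q.B) hz0
  simp only [z, map_sub, map_zero] at h1
  have h2 : π.lTensor Q.B (β.toLinearMap.rTensor _ ((LinearMap.ker π).subtype.lTensor P.B (k' ()))) = 0 := by
    rw [← LinearMap.comp_apply (β.toLinearMap.rTensor _), LinearMap.rTensor_comp_lTensor,
      ← LinearMap.lTensor_comp_rTensor, LinearMap.comp_apply, ← LinearMap.comp_apply (π.lTensor Q.B),
      ← LinearMap.lTensor_comp, LinearMap.comp_ker_subtype, LinearMap.lTensor_zero, LinearMap.zero_apply]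
  rw [h2, sub_zero, ← LinearMap.rTensor_comp_apply, ← AlgHom.comp_toLinearMap] at h1
  rw [hcomm, h1]

/-- Finitely many equations at the point hold on a neighbourhood. -/
theorem exists_equalize {κ : Type w} [Finite κ] (N : Nbhd S L) (y z : κ → N.B ⊗[S] M)
    (h : ∀ k, toPt M N (y k) = toPt M N (z k)) :
    ∃ (P : Nbhd S L) (α : N.B →ₐ[S] P.B), P.toK.comp α = N.toK ∧
      ∀ k, α.toLinearMap.rTensor M (y k) = α.toLinearMap.rTensor M (z k) := by
  classical
  cases nonempty_fintype κ
  suffices hs : ∀ s : Finset κ, ∃ (P : Nbhd S L) (α : N.B →ₐ[S] P.B), P.toK.comp α = N.toK ∧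
      ∀ k ∈ s, α.toLinearMap.rTensor M (y k) = α.toLinearMap.rTensor M (z k) by
    obtain ⟨P, α, hα, h'⟩ := hs Finset.univ
    exact ⟨P, α, hα, fun k => h' k (Finset.mem_univ _)⟩
  intro s
  induction s using Finset.induction with
  | empty => exact ⟨N, AlgHom.id S _, AlgHom.comp_id _, by simp⟩
  | insert a t _ ih =>
    obtain ⟨P, α, hα, h'⟩ := ih
    obtain ⟨Q, β, hβ, hb⟩ := exists_kill P (α.toLinearMap.rTensor M (y a) - α.toLinearMap.rTensor M (z a))
      (by rw [map_sub, toPt_comp α hα, toPt_comp α hα, h a, sub_self])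
    refine ⟨Q, β.comp α, by rw [← AlgHom.comp_assoc, hβ, hα], fun k hk => ?_⟩
    simp only [AlgHom.comp_toLinearMap, LinearMap.rTensor_comp_apply]
    rcases Finset.mem_insert.mp hk with rfl | hk
    · rw [map_sub, sub_eq_zero] at hb; exact hb
    · rw [h' k hk]

end Descent

end

end Groth.Agent.AzInvLib
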