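import Groth.Agent.AzInvLib.Cover
import Groth.Agent.AzInvLib.Point
import Mathlib.Algebra.Module.Projective
import Mathlib.RingTheory.Finiteness.Basic

/-! An isomorphism at every geometric point gives an isomorphism over an etale cover. -/

namespace Groth.Agent.AzInvLib

open scoped TensorProduct
open Hensel

noncomputable section

universe u v w w'

section Basic

variable {S : Type u} [CommRing S] {R : Type v} [CommRing R] [Algebra S R]
  {A : Type w} [Ring A] [Algebra S A] [Algebra R A] [IsScalarTower S R A]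
  {A' : Type w'} [Ring A'] [Algebra S A'] [Algebra R A'] [IsScalarTower S R A']
  {B : Type u} [CommRing B] [Algebra S B] {C : Type u} [CommRing C] [Algebra S C]

variable (B A) in
/-- The scalars in a base change. -/
def rho : R →ₐ[S] B ⊗[S] A :=
  Algebra.TensorProduct.includeRight.comp (IsScalarTower.toAlgHom S R A)

theorem rho_apply (r : R) : rho A B r = (1 : B) ⊗ₜ[S] algebraMap R A r := rfl

theorem rho_comm (r : R) (z : B ⊗[S] A) : rho A B r * z = z * rho A B r := by
  induction z using TensorProduct.induction_on with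
  | zero => simp
  | add x y hx hy => rw [mul_add, add_mul, hx, hy]
  | tmul b a => simp [rho_apply, Algebra.commutes]

variable (A) in
/-- The change of neighbourhood on base changes. -/
def bcMap (α : B →ₐ[S] C) : B ⊗[S] A →ₐ[S] C ⊗[S] A := Algebra.TensorProduct.map α (AlgHom.id S A)

theorem bcMap_eq_rTensor (α : B →ₐ[S] C) (z : B ⊗[S] A) : bcMap A α z = α.toLinearMap.rTensor A z := by
  induction z using TensorProduct.induction_on with
  | zero => simp
  | add x y hx hy => rw [map_add, map_add, hx, hy]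
  | tmul b a => rfl

theorem bcMap_rho (α : B →ₐ[S] C) (r : R) : bcMap A α (rho A B r) = rho A C r := by
  simp [bcMap, rho_apply]

theorem ext_gen {m : ℕ} (a : Fin m → A) (s : A →ₗ[R] (Fin m → R)) (hs : ∀ x, ∑ k, s x k • a k = x)
    {Z : Type*} [Ring Z] (ρ : R → Z) (F G : A → Z) (hFa : ∀ x y, F (x + y) = F x + F y)
    (hGa : ∀ x y, G (x + y) = G x + G y) (hF : ∀ (r : R) x, F (r • x) = ρ r * F x) (hG : ∀ (r : R) x, G (r • x) = ρ r * G x)
    (h : ∀ k, F (a k) = G (a k)) (x : A) : F x = G x := by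
  let F' : A →+ Z := AddMonoidHom.mk' F hFa
  let G' : A →+ Z := AddMonoidHom.mk' G hGa
  show F' x = G' x
  rw [← hs x, map_sum, map_sum]
  exact Finset.sum_congr rfl fun k _ => by
    show F (s x k • a k) = G (s x k • a k)
    rw [hF, hG, h k]

theorem exists_gen [Module.Finite R A] [Module.Projective R A] :
    ∃ (m : ℕ) (a : Fin m → A) (s : A →ₗ[R] (Fin m → R)), ∀ x, ∑ k, s x k • a k = x := by
  obtain ⟨m, π, hπ⟩ := Module.Finite.exists_fin' R A
  obtain ⟨s, hs⟩ := Module.projective_lifting_property π LinearMap.id hπ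
  refine ⟨m, fun k => π (fun j => if k = j then 1 else 0), s, fun x => ?_⟩
  conv_rhs => rw [show x = π (s x) from (LinearMap.congr_fun hs x).symm, pi_eq_sum_univ (s x)]
  simp only [map_sum, map_smul]

/-- The semilinear map with given values on generators. -/
def semiMap {m : ℕ} (s : A →ₗ[R] (Fin m → R)) (y : Fin m → B ⊗[S] A') : A →ₗ[S] B ⊗[S] A' where
  toFun x := ∑ k, rho A' B (s x k) * y k
  map_add' x x' := by simp [map_add, add_mul, Finset.sum_add_distrib]
  map_smul' c x := by
    simp only [LinearMap.map_smul_of_tower, Pi.smul_apply, map_smul, smul_mul_assoc, RingHom.id_apply,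
      Finset.smul_sum]

theorem semiMap_apply {m : ℕ} (s : A →ₗ[R] (Fin m → R)) (y : Fin m → B ⊗[S] A') (x : A) :
    semiMap s y x = ∑ k, rho A' B (s x k) * y k := rfl

theorem semiMap_smul {m : ℕ} (s : A →ₗ[R] (Fin m → R)) (y : Fin m → B ⊗[S] A') (r : R) (x : A) :
    semiMap s y (r • x) = rho A' B r * semiMap s y x := by
  simp [semiMap_apply, map_smul, Finset.mul_sum, mul_assoc]

theorem bcMap_semiMap {m : ℕ} (s : A →ₗ[R] (Fin m → R)) (y : Fin m → B ⊗[S] A') (α : B →ₐ[S] C) (x : A) :
    bcMap A' α (semiMap s y x) = semiMap s (fun k => bcMap A' α (y k)) x := by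
  simp [semiMap_apply, map_sum, bcMap_rho]

/-- The extension of a map to the base change. -/
def extend (φ : A →ₐ[S] B ⊗[S] A') : B ⊗[S] A →ₐ[B] B ⊗[S] A' :=
  Algebra.TensorProduct.lift (Algebra.ofId B _) φ fun b _ => Algebra.commutes b _

theorem extend_tmul (φ : A →ₐ[S] B ⊗[S] A') (b : B) (x : A) :
    extend φ (b ⊗ₜ x) = algebraMap B (B ⊗[S] A') b * φ x := by
  simp [extend, Algebra.ofId_apply]

theorem bcMap_algebraMap (α : B →ₐ[S] C) (b : B) :
    bcMap A α (algebraMap B (B ⊗[S] A) b) = algebraMap C (C ⊗[S] A) (α b) := by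
  simp [bcMap, Algebra.TensorProduct.algebraMap_apply]

theorem bcMap_extend (φ : A →ₐ[S] B ⊗[S] A') (ψ : A →ₐ[S] C ⊗[S] A') (α : B →ₐ[S] C)
    (h : ∀ x, bcMap A' α (φ x) = ψ x) (z : B ⊗[S] A) :
    bcMap A' α (extend φ z) = extend ψ (bcMap A α z) := by
  induction z using TensorProduct.induction_on with
  | zero => simp
  | add x y hx hy => simp only [map_add, hx, hy]
  | tmul b x =>
    rw [extend_tmul, map_mul, bcMap_algebraMap, h, show bcMap A α (b ⊗ₜ[S] x) = α b ⊗ₜ x from rfl, extend_tmul]

theorem extend_rho (φ : A →ₐ[S] B ⊗[S] A') (hφ : ∀ (r : R) x, φ (r • x) = rho A' B r * φ x) (r : R)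
    (z : B ⊗[S] A) : extend φ (rho A B r * z) = rho A' B r * extend φ z := by
  rw [map_mul, rho_apply, extend_tmul, map_one, one_mul,
    show φ (algebraMap R A r) = rho A' B r by
      rw [Algebra.algebraMap_eq_smul_one, hφ, map_one, mul_one]]

theorem extend_algEquiv (F : B ⊗[S] A ≃ₐ[B] B ⊗[S] A') (y : B ⊗[S] A') :
    extend ((F.toAlgHom.restrictScalars S).comp Algebra.TensorProduct.includeRight) (F.symm y) = y := by
  have hext : extend ((F.toAlgHom.restrictScalars S).comp Algebra.TensorProduct.includeRight) = F.toAlgHom := by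
    refine Algebra.TensorProduct.ext (by ext) ?_
    ext x; simp [extend, ← Algebra.TensorProduct.one_def]
  rw [hext]; exact F.apply_symm_apply y

variable (σ : R → R) (T : A →ₗ[S] A)

theorem baseChange_rho (hT : ∀ (r : R) x, T (r • x) = σ r • T x) (r : R) (z : B ⊗[S] A) :
    T.baseChange B (rho A B r * z) = rho A B (σ r) * T.baseChange B z := by
  induction z using TensorProduct.induction_on with
  | zero => simp
  | add x y hx hy => simp only [mul_add, map_add, hx, hy]
  | tmul b a => simp [rho_apply, ← Algebra.smul_def, hT]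

theorem bcMap_baseChange (α : B →ₐ[S] C) (z : B ⊗[S] A) :
    bcMap A α (T.baseChange B z) = T.baseChange C (bcMap A α z) := by
  induction z using TensorProduct.induction_on with
  | zero => simp
  | add x y hx hy => simp only [map_add, hx, hy]
  | tmul b a => simp [bcMap]

end Basic

section Local

variable {S : Type u} [CommRing S] {R : Type v} [CommRing R] [Algebra S R]
  {A : Type w} [Ring A] [Algebra S A] [Algebra R A] [IsScalarTower S R A]
  {A' : Type w'} [Ring A'] [Algebra S A'] [Algebra R A'] [IsScalarTower S R A']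

variable {L : Type u} [Field L] [Algebra S L]

theorem toPt_eq (N : Nbhd S L) (z : N.B ⊗[S] A) : toPt A N z = bcMap A (Henz.ofB N) z :=
  (bcMap_eq_rTensor _ _).symm

/-- An isomorphism at a geometric point, given on the algebras, spreads to a neighbourhood. -/
theorem exists_nbhd_iso [Module.Finite R A] [Module.Projective R A] [Module.Finite R A']
    [Module.Projective R A'] (σ : R → R) (T : A →ₗ[S] A) (T' : A' →ₗ[S] A')
    (hT : ∀ (r : R) x, T (r • x) = σ r • T x) (hT' : ∀ (r : R) x, T' (r • x) = σ r • T' x)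
    (f : A →ₐ[S] Henz S L ⊗[S] A') (g : A' →ₐ[S] Henz S L ⊗[S] A)
    (hf : ∀ (r : R) x, f (r • x) = rho A' _ r * f x) (hg : ∀ (r : R) x, g (r • x) = rho A _ r * g x)
    (hfT : ∀ x, f (T x) = T'.baseChange _ (f x))
    (hgf : ∀ x, extend g (f x) = 1 ⊗ₜ x) (hfg : ∀ x, extend f (g x) = 1 ⊗ₜ x) :
    ∃ (N : Nbhd S L) (e : N.B ⊗[S] A ≃ₐ[N.B] N.B ⊗[S] A'),
      (∀ (r : R) z, e (rho A N.B r * z) = rho A' N.B r * e z) ∧
        ∀ z, e (T.baseChange N.B z) = T'.baseChange N.B (e z) := by
  classical
  obtain ⟨m, a, s, hs⟩ := exists_gen (R := R) (A := A)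
  obtain ⟨m', a', s', hs'⟩ := exists_gen (R := R) (A := A')
  obtain ⟨N₀, α₀, hα₀, y, hy⟩ := exists_lift_family (Classical.arbitrary (Nbhd S L)) fun k => f (a k)
  obtain ⟨N, α, hα, y', hy'⟩ := exists_lift_family N₀ fun k => g (a' k)
  let Y : Fin m → N.B ⊗[S] A' := fun k => bcMap A' α (y k)
  have hY : ∀ k, bcMap A' (Henz.ofB N) (Y k) = f (a k) := fun k => by
    rw [← toPt_eq, show Y k = α.toLinearMap.rTensor A' (y k) from bcMap_eq_rTensor _ _, toPt_comp α hα, hy]
  have hY' : ∀ k, bcMap A (Henz.ofB N) (y' k) = g (a' k) := fun k => by rw [← toPt_eq, hy']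
  let φ : A →ₗ[S] N.B ⊗[S] A' := semiMap s Y
  let ψ : A' →ₗ[S] N.B ⊗[S] A := semiMap s' y'
  have hφH : ∀ x, bcMap A' (Henz.ofB N) (φ x) = f x := fun x =>
    ext_gen a s hs (rho A' (Henz S L)) (fun x => bcMap A' (Henz.ofB N) (φ x)) f
      (fun x y => by simp) (fun x y => map_add f x y)
      (fun r x => by simp [φ, semiMap_smul, bcMap_rho]) hf (fun k => by
        simp only [φ, semiMap_apply, map_sum, map_mul, bcMap_rho, hY, ← hf]
        rw [← map_sum, hs]) x
  have hψH : ∀ x, bcMap A (Henz.ofB N) (ψ x) = g x := fun x =>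
    ext_gen a' s' hs' (rho A (Henz S L)) (fun x => bcMap A (Henz.ofB N) (ψ x)) g
      (fun x y => by simp) (fun x y => map_add g x y)
      (fun r x => by simp [ψ, semiMap_smul, bcMap_rho]) hg (fun k => by
        simp only [ψ, semiMap_apply, map_sum, map_mul, bcMap_rho, hY', ← hg]
        rw [← map_sum, hs']) x
  -- the extensions, as linear maps
  let Φ : N.B ⊗[S] A →ₗ[S] N.B ⊗[S] A' := (φ.liftBaseChange N.B).restrictScalars S
  let Ψ : N.B ⊗[S] A' →ₗ[S] N.B ⊗[S] A := (ψ.liftBaseChange N.B).restrictScalars S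
  have hΦH : ∀ z, bcMap A' (Henz.ofB N) (Φ z) = extend f (bcMap A (Henz.ofB N) z) := fun z => by
    induction z using TensorProduct.induction_on with
    | zero => simp
    | add x y hx hy => simp only [map_add, hx, hy]
    | tmul b x =>
      simp only [Φ, LinearMap.coe_restrictScalars, LinearMap.liftBaseChange_tmul, Algebra.smul_def, map_mul, bcMap_algebraMap, hφH]
      rw [show bcMap A (Henz.ofB N) (b ⊗ₜ[S] x) = Henz.ofB N b ⊗ₜ x from rfl, extend_tmul]
  have hΨH : ∀ z, bcMap A (Henz.ofB N) (Ψ z) = extend g (bcMap A' (Henz.ofB N) z) := fun z => by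
    induction z using TensorProduct.induction_on with
    | zero => simp
    | add x y hx hy => simp only [map_add, hx, hy]
    | tmul b x =>
      simp only [Ψ, LinearMap.coe_restrictScalars, LinearMap.liftBaseChange_tmul, Algebra.smul_def, map_mul, bcMap_algebraMap, hψH]
      rw [show bcMap A' (Henz.ofB N) (b ⊗ₜ[S] x) = Henz.ofB N b ⊗ₜ x from rfl, extend_tmul]
  obtain ⟨P, β, hβ, hE₁⟩ := exists_equalize (M := A') N
    (Sum.elim (Sum.elim (fun p : Fin m × Fin m => φ (a p.1 * a p.2)) fun _ : Unit => φ 1)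
      (Sum.elim (fun k : Fin m => φ (T (a k))) fun k : Fin m' => Φ (ψ (a' k))))
    (Sum.elim (Sum.elim (fun p => φ (a p.1) * φ (a p.2)) fun _ => 1)
      (Sum.elim (fun k => T'.baseChange N.B (φ (a k))) fun k => 1 ⊗ₜ a' k)) (by
    rintro ((p | -) | k | k) <;> simp only [Sum.elim_inl, Sum.elim_inr, toPt_eq]
    · rw [hφH, map_mul (bcMap A' _), hφH, hφH, map_mul]
    · rw [hφH, map_one, map_one]
    · rw [hφH, hfT, bcMap_baseChange, hφH]
    · rw [hΦH, hψH, hfg]; simp [bcMap])
  obtain ⟨Q, γ, hγ, hE₂⟩ := exists_equalize (M := A) P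
    (Sum.elim (Sum.elim (fun p : Fin m' × Fin m' => bcMap A β (ψ (a' p.1 * a' p.2))) fun _ : Unit => bcMap A β (ψ 1))
      fun k : Fin m => bcMap A β (Ψ (φ (a k))))
    (Sum.elim (Sum.elim (fun p => bcMap A β (ψ (a' p.1) * ψ (a' p.2))) fun _ => 1) fun k => 1 ⊗ₜ a k) (by
    rintro ((p | -) | k) <;> simp only [Sum.elim_inl, Sum.elim_inr] <;>
      rw [bcMap_eq_rTensor, toPt_comp β hβ, toPt_eq]
    · rw [bcMap_eq_rTensor β, toPt_comp β hβ, toPt_eq, hψH, map_mul (bcMap A _), hψH, hψH, map_mul]
    · rw [hψH, map_one, toPt_eq, map_one]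
    · rw [hΨH, hφH, hgf, toPt_eq]; simp [bcMap])
  let ε : N.B →ₐ[S] Q.B := γ.comp β
  have hεA : ∀ z : N.B ⊗[S] A, bcMap A ε z = bcMap A γ (bcMap A β z) := fun z => by
    induction z using TensorProduct.induction_on with
    | zero => simp
    | add x y hx hy => simp only [map_add, hx, hy]
    | tmul b x => rfl
  have hεA' : ∀ z : N.B ⊗[S] A', bcMap A' ε z = bcMap A' γ (bcMap A' β z) := fun z => by
    induction z using TensorProduct.induction_on with
    | zero => simp
    | add x y hx hy => simp only [map_add, hx, hy]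
    | tmul b x => rfl
  have e1 : ∀ i : (Fin m × Fin m ⊕ Unit) ⊕ (Fin m ⊕ Fin m'), bcMap A' ε
      (Sum.elim (Sum.elim (fun p : Fin m × Fin m => φ (a p.1 * a p.2)) fun _ : Unit => φ 1)
        (Sum.elim (fun k : Fin m => φ (T (a k))) fun k : Fin m' => Φ (ψ (a' k))) i) = bcMap A' ε
      (Sum.elim (Sum.elim (fun p => φ (a p.1) * φ (a p.2)) fun _ => 1)
        (Sum.elim (fun k => T'.baseChange N.B (φ (a k))) fun k => 1 ⊗ₜ a' k) i) := fun i => by
    rw [hεA', hεA', bcMap_eq_rTensor β, bcMap_eq_rTensor β, hE₁]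
  simp only [← bcMap_eq_rTensor] at hE₂
  let φQ : A →ₗ[S] Q.B ⊗[S] A' := semiMap s fun k => bcMap A' ε (Y k)
  let ψQ : A' →ₗ[S] Q.B ⊗[S] A := semiMap s' fun k => bcMap A ε (y' k)
  have hφQ : ∀ x, bcMap A' ε (φ x) = φQ x := fun x => bcMap_semiMap ..
  have hψQ : ∀ x, bcMap A ε (ψ x) = ψQ x := fun x => bcMap_semiMap ..
  have hφ1 : φQ 1 = 1 := by
    rw [← hφQ]; simpa using e1 (Sum.inl (Sum.inr ()))
  have hψ1 : ψQ 1 = 1 := by
    rw [← hψQ, hεA]; simpa using hE₂ (Sum.inl (Sum.inr ()))
  have hφm : ∀ x z, φQ (x * z) = φQ x * φQ z := fun x z =>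
    ext_gen a s hs (rho A' Q.B) (fun x => φQ (x * z)) (fun x => φQ x * φQ z)
      (fun x y => by simp [add_mul]) (fun x y => by simp [add_mul])
      (fun r x => by simp [φQ, semiMap_smul, smul_mul_assoc])
      (fun r x => by simp [φQ, semiMap_smul, mul_assoc]) (fun k =>
        ext_gen a s hs (rho A' Q.B) (fun z => φQ (a k * z)) (fun z => φQ (a k) * φQ z)
          (fun x y => by simp [mul_add]) (fun x y => by simp [mul_add])
          (fun r x => by simp [φQ, semiMap_smul, mul_smul_comm])
          (fun r x => by simp only [φQ, semiMap_smul]; rw [← mul_assoc, ← rho_comm, mul_assoc]) (fun l => by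
            have e := e1 (Sum.inl (Sum.inl (k, l)))
            simp only [Sum.elim_inl, map_mul, hφQ] at e
            exact e) z) x
  have hψm : ∀ x z, ψQ (x * z) = ψQ x * ψQ z := fun x z =>
    ext_gen a' s' hs' (rho A Q.B) (fun x => ψQ (x * z)) (fun x => ψQ x * ψQ z)
      (fun x y => by simp [add_mul]) (fun x y => by simp [add_mul])
      (fun r x => by simp [ψQ, semiMap_smul, smul_mul_assoc])
      (fun r x => by simp [ψQ, semiMap_smul, mul_assoc]) (fun k =>
        ext_gen a' s' hs' (rho A Q.B) (fun z => ψQ (a' k * z)) (fun z => ψQ (a' k) * ψQ z)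
          (fun x y => by simp [mul_add]) (fun x y => by simp [mul_add])
          (fun r x => by simp [ψQ, semiMap_smul, mul_smul_comm])
          (fun r x => by simp only [ψQ, semiMap_smul]; rw [← mul_assoc, ← rho_comm, mul_assoc]) (fun l => by
            have e := hE₂ (Sum.inl (Sum.inl (k, l)))
            simp only [Sum.elim_inl, map_mul, ← hεA, hψQ] at e
            exact e) z) x
  let φA : A →ₐ[S] Q.B ⊗[S] A' := AlgHom.ofLinearMap φQ hφ1 hφm
  let ψA : A' →ₐ[S] Q.B ⊗[S] A := AlgHom.ofLinearMap ψQ hψ1 hψm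
  have hφs : ∀ (r : R) x, φA (r • x) = rho A' Q.B r * φA x := fun r x => semiMap_smul ..
  have hψs : ∀ (r : R) x, ψA (r • x) = rho A Q.B r * ψA x := fun r x => semiMap_smul ..
  have hΦQ : ∀ z, bcMap A' ε (Φ z) = extend φA (bcMap A ε z) := fun z => by
    induction z using TensorProduct.induction_on with
    | zero => simp
    | add x y hx hy => simp only [map_add, hx, hy]
    | tmul b x =>
      simp only [Φ, LinearMap.coe_restrictScalars, LinearMap.liftBaseChange_tmul, Algebra.smul_def, map_mul, bcMap_algebraMap, hφQ]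
      rw [show bcMap A ε (b ⊗ₜ[S] x) = ε b ⊗ₜ x from rfl, extend_tmul]; rfl
  have hΨQ : ∀ z, bcMap A ε (Ψ z) = extend ψA (bcMap A' ε z) := fun z => by
    induction z using TensorProduct.induction_on with
    | zero => simp
    | add x y hx hy => simp only [map_add, hx, hy]
    | tmul b x =>
      simp only [Ψ, LinearMap.coe_restrictScalars, LinearMap.liftBaseChange_tmul, Algebra.smul_def, map_mul, bcMap_algebraMap, hψQ]
      rw [show bcMap A' ε (b ⊗ₜ[S] x) = ε b ⊗ₜ x from rfl, extend_tmul]; rfl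
  have c1 : ∀ x, extend φA (ψA x) = 1 ⊗ₜ x := fun x =>
    ext_gen a' s' hs' (rho A' Q.B) (fun x => extend φA (ψA x)) (fun x => (1 : Q.B) ⊗ₜ x)
      (fun x y => by simp) (fun x y => TensorProduct.tmul_add _ _ _)
      (fun r x => by simp only [hψs, extend_rho φA hφs])
      (fun r x => by simp [rho_apply, ← Algebra.smul_def]) (fun k => by
        have e := e1 (Sum.inr (Sum.inr k))
        simp only [Sum.elim_inr, hΦQ, hψQ] at e
        simpa [bcMap, ψA] using e) x
  have c2 : ∀ x, extend ψA (φA x) = 1 ⊗ₜ x := fun x =>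
    ext_gen a s hs (rho A Q.B) (fun x => extend ψA (φA x)) (fun x => (1 : Q.B) ⊗ₜ x)
      (fun x y => by simp) (fun x y => TensorProduct.tmul_add _ _ _)
      (fun r x => by simp only [hφs, extend_rho ψA hψs])
      (fun r x => by simp [rho_apply, ← Algebra.smul_def]) (fun k => by
        have e := hE₂ (Sum.inr k)
        simp only [Sum.elim_inr, ← hεA, hΨQ, hφQ] at e
        simpa [bcMap, φA] using e) x
  refine ⟨Q, AlgEquiv.ofAlgHom (extend φA) (extend ψA) ?_ ?_, fun r z => extend_rho φA hφs r z, fun z => ?_⟩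
  · refine Algebra.TensorProduct.ext (by ext) ?_
    ext x; simpa [extend, ← Algebra.TensorProduct.one_def] using c1 x
  · refine Algebra.TensorProduct.ext (by ext) ?_
    ext x; simpa [extend, ← Algebra.TensorProduct.one_def] using c2 x
  · show extend φA (T.baseChange Q.B z) = T'.baseChange Q.B (extend φA z)
    have ht : ∀ x, φA (T x) = T'.baseChange Q.B (φA x) := fun x =>
      ext_gen a s hs (fun r => rho A' Q.B (σ r)) (fun x => φA (T x)) (fun x => T'.baseChange Q.B (φA x))
        (fun x y => by simp) (fun x y => by simp) (fun r x => by simp only [hT, hφs])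
        (fun r x => by simp only [hφs, baseChange_rho σ T' hT']) (fun k => by
          have e := e1 (Sum.inr (Sum.inl k))
          simp only [Sum.elim_inr, Sum.elim_inl, bcMap_baseChange, hφQ] at e
          exact e) x
    induction z using TensorProduct.induction_on with
    | zero => simp
    | add x y hx hy => simp only [map_add, hx, hy]
    | tmul b x =>
      rw [LinearMap.baseChange_tmul, extend_tmul, extend_tmul, ht, ← Algebra.smul_def, ← Algebra.smul_def,
        map_smul]

end Local

section Global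

variable {S : Type u} [CommRing S] {R : Type v} [CommRing R] [Algebra S R]
  {A : Type w} [Ring A] [Algebra S A] [Algebra R A] [IsScalarTower S R A]
  {A' : Type w'} [Ring A'] [Algebra S A'] [Algebra R A'] [IsScalarTower S R A']

/-- Isomorphisms at all geometric points give an isomorphism over an etale cover. -/
theorem exists_cover_iso [Module.Finite R A] [Module.Projective R A] [Module.Finite R A']
    [Module.Projective R A'] (σ : R → R) (T : A →ₗ[S] A) (T' : A' →ₗ[S] A')
    (hT : ∀ (r : R) x, T (r • x) = σ r • T x) (hT' : ∀ (r : R) x, T' (r • x) = σ r • T' x)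
    (h : ∀ (L : Type u) [Field L] [Algebra S L], IsAlgClosed L →
      ∃ e : Henz S L ⊗[S] A ≃ₐ[Henz S L] Henz S L ⊗[S] A',
        (∀ (r : R) z, e (rho A _ r * z) = rho A' _ r * e z) ∧ ∀ z, e (T.baseChange _ z) = T'.baseChange _ (e z)) :
    ∃ (S' : Type u) (_ : CommRing S') (_ : Algebra S S') (_ : Algebra.Etale S S')
      (_ : Module.FaithfullyFlat S S') (e : S' ⊗[S] A ≃ₐ[S'] S' ⊗[S] A'),
        (∀ (r : R) z, e (rho A _ r * z) = rho A' _ r * e z) ∧ ∀ z, e (T.baseChange _ z) = T'.baseChange _ (e z) := by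
  classical
  obtain ⟨ι, _, _, B, _, _, hP, het, hff⟩ := exists_etale_cover (S := S)
    (fun B _ _ => ∃ e : B ⊗[S] A ≃ₐ[B] B ⊗[S] A',
      (∀ (r : R) z, e (rho A B r * z) = rho A' B r * e z) ∧ ∀ z, e (T.baseChange B z) = T'.baseChange B (e z))
    fun p => by
      obtain ⟨L, _, _, hL, hker⟩ := exists_point p.asIdeal
      obtain ⟨e, he, heT⟩ := h L hL
      obtain ⟨N, e', he', heT'⟩ := exists_nbhd_iso σ T T' hT hT'
        ((e.toAlgHom.restrictScalars S).comp Algebra.TensorProduct.includeRight)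
        ((e.symm.toAlgHom.restrictScalars S).comp Algebra.TensorProduct.includeRight)
        (fun r x => by
          show e (1 ⊗ₜ (r • x)) = rho A' _ r * e (1 ⊗ₜ x)
          rw [← he, rho_apply, Algebra.TensorProduct.tmul_mul_tmul, one_mul, ← Algebra.smul_def])
        (fun r x => by
          show e.symm (1 ⊗ₜ (r • x)) = rho A _ r * e.symm (1 ⊗ₜ x)
          apply e.injective
          rw [e.apply_symm_apply, he, e.apply_symm_apply, rho_apply, Algebra.TensorProduct.tmul_mul_tmul,
            one_mul, ← Algebra.smul_def])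
        (fun x => by
          show e (1 ⊗ₜ T x) = T'.baseChange _ (e (1 ⊗ₜ x))
          rw [← heT, LinearMap.baseChange_tmul])
        (fun x => by
          have := extend_algEquiv e.symm ((1 : Henz S L) ⊗ₜ x)
          rw [AlgEquiv.symm_symm] at this
          simpa using this)
        (fun x => by simpa using extend_algEquiv e ((1 : Henz S L) ⊗ₜ x))
      exact ⟨N.B, inferInstance, inferInstance, inferInstance, ⟨e', he', heT'⟩, mem_range_comap_nbhd N p hker⟩
  choose e he heT using hP
  let φ : A →ₗ[S] (∀ i, B i) ⊗[S] A' := ∑ i, (emb B i).comp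
    ((e i).toAlgHom.toLinearMap.restrictScalars S ∘ₗ TensorProduct.mk S (B i) A 1)
  let ψ : A' →ₗ[S] (∀ i, B i) ⊗[S] A := ∑ i, (emb B i).comp
    ((e i).symm.toAlgHom.toLinearMap.restrictScalars S ∘ₗ TensorProduct.mk S (B i) A' 1)
  have hφ : ∀ i x, proj B i (φ x) = e i (1 ⊗ₜ x) := fun i x => by
    rw [show φ x = glue B fun i => e i (1 ⊗ₜ x) by simp [φ, glue], proj_glue]
  have hψ : ∀ i x, proj B i (ψ x) = (e i).symm (1 ⊗ₜ x) := fun i x => by
    rw [show ψ x = glue B fun i => (e i).symm (1 ⊗ₜ x) by simp [ψ, glue], proj_glue]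
  let φA : A →ₐ[S] (∀ i, B i) ⊗[S] A' := AlgHom.ofLinearMap φ
    (ext_proj B fun i => by rw [hφ, map_one]; exact map_one (e i))
    (fun x y => ext_proj B fun i => by
      rw [map_mul (proj B i), hφ, hφ, hφ, ← map_mul, Algebra.TensorProduct.tmul_mul_tmul, one_mul])
  let ψA : A' →ₐ[S] (∀ i, B i) ⊗[S] A := AlgHom.ofLinearMap ψ
    (ext_proj B fun i => by rw [hψ, map_one]; exact map_one (e i).symm)
    (fun x y => ext_proj B fun i => by
      rw [map_mul (proj B i), hψ, hψ, hψ, ← map_mul, Algebra.TensorProduct.tmul_mul_tmul, one_mul])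
  have hΦ : ∀ i z, proj B i (extend φA z) = e i (proj B i z) := fun i z => by
    induction z using TensorProduct.induction_on with
    | zero => simp
    | add x y hx hy => simp only [map_add, hx, hy]
    | tmul b x =>
      rw [extend_tmul, map_mul, show φA x = φ x from rfl, hφ,
        show proj B i (algebraMap (∀ i, B i) ((∀ i, B i) ⊗[S] A') b) = algebraMap (B i) _ (b i) from
          bcMap_algebraMap (Pi.evalAlgHom S B i) b,
        show proj B i (b ⊗ₜ[S] x) = b i ⊗ₜ x from rfl, ← Algebra.smul_def, ← map_smul, TensorProduct.smul_tmul',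
        smul_eq_mul, mul_one]
  have hΨ : ∀ i z, proj B i (extend ψA z) = (e i).symm (proj B i z) := fun i z => by
    induction z using TensorProduct.induction_on with
    | zero => simp
    | add x y hx hy => simp only [map_add, hx, hy]
    | tmul b x =>
      rw [extend_tmul, map_mul, show ψA x = ψ x from rfl, hψ,
        show proj B i (algebraMap (∀ i, B i) ((∀ i, B i) ⊗[S] A) b) = algebraMap (B i) _ (b i) from
          bcMap_algebraMap (Pi.evalAlgHom S B i) b,
        show proj B i (b ⊗ₜ[S] x) = b i ⊗ₜ x from rfl, ← Algebra.smul_def, ← map_smul, TensorProduct.smul_tmul',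
        smul_eq_mul, mul_one]
  refine ⟨∀ i, B i, inferInstance, inferInstance, het, hff,
    AlgEquiv.ofAlgHom (extend φA) (extend ψA) ?_ ?_, fun r z => ext_proj B fun i => ?_,
    fun z => ext_proj B fun i => ?_⟩
  · exact AlgHom.ext fun z => ext_proj B fun i => by simp [hΦ, hΨ]
  · exact AlgHom.ext fun z => ext_proj B fun i => by simp [hΦ, hΨ]
  · show proj B i (extend φA _) = proj B i (_ * extend φA z)
    rw [hΦ, map_mul (proj B i), map_mul (proj B i), hΦ]
    erw [bcMap_rho, bcMap_rho]
    exact he i r _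
  · show proj B i (extend φA _) = proj B i (T'.baseChange _ (extend φA z))
    rw [hΦ, show proj B i (T.baseChange _ z) = T.baseChange _ (proj B i z) from bcMap_baseChange T _ z, heT,
      show proj B i (T'.baseChange _ (extend φA z)) = T'.baseChange _ (proj B i (extend φA z)) from
        bcMap_baseChange T' _ _, hΦ]

end Global

end

end Groth.Agent.AzInvLib
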