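import Groth.Agent.AzInvLib.Point
import Groth.Agent.AzInvLib.Spread
import Groth.Agent.AzInvLib.Forms
import Mathlib.RingTheory.Jacobson.Ring
import Mathlib.RingTheory.Flat.FaithfullyFlat.Algebra

/-! Maps from etale covers to the ring of a geometric point. -/

namespace Groth.Agent.AzInvLib

open scoped TensorProduct
open Hensel

noncomputable section

universe u v w w'

variable {S : Type u} [CommRing S] {L : Type u} [Field L] [IsAlgClosed L] [Algebra S L]

/-- A geometric point lifts to a faithfully flat algebra of finite type. -/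
theorem exists_hom_field {B : Type u} [CommRing B] [Algebra S B] (τ : B →ₐ[S] L) (B₂ : Type u) [CommRing B₂]
    [Algebra B B₂] [Algebra.FiniteType B B₂] [Module.FaithfullyFlat B B₂] [Algebra S B₂] [IsScalarTower S B B₂] :
    ∃ τ₂ : B₂ →ₐ[S] L, τ₂.comp (IsScalarTower.toAlgHom S B B₂) = τ := by
  letI : Algebra B L := τ.toRingHom.toAlgebra
  haveI : Nontrivial (L ⊗[B] B₂) := Module.FaithfullyFlat.rTensor_nontrivial B B₂ L
  obtain ⟨m, hm⟩ := Ideal.exists_maximal (L ⊗[B] B₂)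
  letI := Ideal.Quotient.field m
  haveI : Module.Finite L ((L ⊗[B] B₂) ⧸ m) := finite_of_finite_type_of_isJacobsonRing _ _
  haveI : Algebra.IsAlgebraic L ((L ⊗[B] B₂) ⧸ m) := Algebra.IsAlgebraic.of_finite L _
  let e : L ≃ₐ[L] (L ⊗[B] B₂) ⧸ m := AlgEquiv.ofBijective (Algebra.ofId L _)
    (IsAlgClosed.algebraMap_bijective_of_isIntegral (k := L) (K := (L ⊗[B] B₂) ⧸ m))
  let g : B₂ →ₐ[B] L := (e.symm.toAlgHom.restrictScalars B).comp
    (((Ideal.Quotient.mkₐ L m).restrictScalars B).comp Algebra.TensorProduct.includeRight)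
  refine ⟨{ g.toRingHom with commutes' := fun s => ?_ }, ?_⟩
  · show g (algebraMap S B₂ s) = _
    rw [IsScalarTower.algebraMap_apply S B B₂, g.commutes]
    exact τ.commutes s
  · ext b
    exact g.commutes b

/-- An etale cover maps to the ring of any geometric point. -/
theorem exists_pt_hom (S' : Type u) [CommRing S'] [Algebra S S'] [Algebra.Etale S S'] [Module.FaithfullyFlat S S'] :
    Nonempty (S' →ₐ[S] Henz S L) := by
  obtain ⟨τ₂, -⟩ := exists_hom_field (Algebra.ofId S L) S'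
  exact ⟨Henz.ofNbhd S' τ₂⟩

theorem exists_sqrt_point (hsq : ∀ (S₁ : Type u) [CommRing S₁] [Algebra S S₁] [Algebra.Etale S S₁] (x : S₁ˣ),
      ∃ (S₂ : Type u) (_ : CommRing S₂) (_ : Algebra S₁ S₂) (_ : Algebra.Etale S₁ S₂)
        (_ : Module.FaithfullyFlat S₁ S₂) (y : S₂), y * y = algebraMap S₁ S₂ ↑x) (x : (Henz S L)ˣ) :
    ∃ y : Henz S L, y * y = x := by
  obtain ⟨N, b, hb⟩ := Henz.exists_ofB (x : Henz S L)
  obtain ⟨N', b', hb'⟩ := Henz.exists_ofB (↑x⁻¹ : Henz S L)
  obtain ⟨P, α, β, hα, hβ⟩ := N.exists_hom₂ N'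
  have hP : Henz.ofB P (α b * β b') = Henz.ofB P 1 := by
    rw [map_mul, ← AlgHom.comp_apply, ← AlgHom.comp_apply, Henz.ofB_comp α hα, Henz.ofB_comp β hβ, hb, hb',
      Units.mul_inv, map_one]
  obtain ⟨Q, γ, hγ, hQ⟩ := Henz.exists_of_ofB_eq hP
  rw [map_mul, map_one] at hQ
  have hx : Henz.ofB Q (γ (α b)) = x := by
    rw [← AlgHom.comp_apply, Henz.ofB_comp γ hγ, ← AlgHom.comp_apply, Henz.ofB_comp α hα, hb]
  obtain ⟨B₂, _, _, _, _, y, hy⟩ := hsq Q.B (Units.mkOfMulEqOne _ _ hQ)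
  letI : Algebra S B₂ := ((algebraMap Q.B B₂).comp (algebraMap S Q.B)).toAlgebra
  haveI : IsScalarTower S Q.B B₂ := IsScalarTower.of_algebraMap_eq fun _ => rfl
  haveI : Algebra.Etale S B₂ := Algebra.Etale.comp S Q.B B₂
  obtain ⟨τ₂, hτ₂⟩ := exists_hom_field (B := Q.B) Q.toK B₂
  obtain ⟨M, e, he⟩ := Nbhd.exists_equiv B₂ τ₂
  let δ : Q.B →ₐ[S] M.B := e.symm.toAlgHom.comp (IsScalarTower.toAlgHom S Q.B B₂)
  have hδ : M.toK.comp δ = Q.toK := by
    rw [he, ← hτ₂]; ext z; simp [δ]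
  refine ⟨Henz.ofB M (e.symm y), ?_⟩
  rw [← map_mul, ← map_mul e.symm, hy, ← hx, ← Henz.ofB_comp δ hδ]
  rfl

section Transport

variable {R : Type v} [CommRing R] [Algebra S R] {lam : R ≃ₐ[S] R}
  {A : Type w} [Ring A] [Algebra S A] [Algebra R A] [IsScalarTower S R A]
  {A' : Type w'} [Ring A'] [Algebra S A'] [Algebra R A'] [IsScalarTower S R A']
  {S' : Type u} [CommRing S'] [Algebra S S'] {B : Type u} [CommRing B] [Algebra S B]

/-- The transport of a map along a change of base. -/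
def pushHom (σ : S' →ₐ[S] B) (e : S' ⊗[S] A ≃ₐ[S'] S' ⊗[S] A') : A →ₐ[S] B ⊗[S] A' :=
  (bcMap A' σ).comp ((e.toAlgHom.restrictScalars S).comp Algebra.TensorProduct.includeRight)

theorem extend_pushHom (σ : S' →ₐ[S] B) (e : S' ⊗[S] A ≃ₐ[S'] S' ⊗[S] A') (z : S' ⊗[S] A) :
    extend (pushHom σ e) (bcMap A σ z) = bcMap A' σ (e z) := by
  induction z using TensorProduct.induction_on with
  | zero => simp
  | add x y hx hy => simp only [map_add, hx, hy]
  | tmul s a =>
    rw [show bcMap A σ (s ⊗ₜ[S] a) = σ s ⊗ₜ a from rfl, extend_tmul]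
    rw [show (s ⊗ₜ[S] a : S' ⊗[S] A) = algebraMap S' _ s * (1 ⊗ₜ a) by simp, map_mul, map_mul, AlgEquiv.commutes,
      bcMap_algebraMap]
    rfl

theorem extend_pushHom_symm (σ : S' →ₐ[S] B) (e : S' ⊗[S] A ≃ₐ[S'] S' ⊗[S] A') (z : B ⊗[S] A) :
    extend (pushHom σ e.symm) (extend (pushHom σ e) z) = z := by
  induction z using TensorProduct.induction_on with
  | zero => simp
  | add x y hx hy => simp only [map_add, hx, hy]
  | tmul b a =>
    rw [extend_tmul, map_mul, AlgHom.commutes, show pushHom σ e a = bcMap A' σ (e (1 ⊗ₜ a)) from rfl,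
      extend_pushHom, e.symm_apply_apply]
    simp [bcMap]

/-- An isomorphism over a cover gives one over any algebra receiving it. -/
theorem exists_push (σ : S' →ₐ[S] B) (T : A →ₗ[S] A) (T' : A' →ₗ[S] A') (e : S' ⊗[S] A ≃ₐ[S'] S' ⊗[S] A')
    (he : ∀ (r : R) z, e (rho A S' r * z) = rho A' S' r * e z)
    (heT : ∀ z, e (T.baseChange S' z) = T'.baseChange S' (e z)) :
    ∃ f : B ⊗[S] A ≃ₐ[B] B ⊗[S] A', (∀ (r : R) z, f (rho A B r * z) = rho A' B r * f z) ∧
      ∀ z, f (T.baseChange B z) = T'.baseChange B (f z) := by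
  refine ⟨AlgEquiv.ofAlgHom (extend (pushHom σ e)) (extend (pushHom σ e.symm)) ?_ ?_, fun r z => ?_, fun z => ?_⟩
  · refine AlgHom.ext fun z => ?_
    have := extend_pushHom_symm σ e.symm z
    rwa [AlgEquiv.symm_symm] at this
  · exact AlgHom.ext fun z => extend_pushHom_symm σ e z
  · refine extend_rho _ (fun r x => ?_) r z
    show bcMap A' σ (e (1 ⊗ₜ (r • x))) = rho A' B r * bcMap A' σ (e (1 ⊗ₜ x))
    rw [← bcMap_rho σ, ← map_mul, ← he, rho_apply, Algebra.TensorProduct.tmul_mul_tmul, one_mul, ← Algebra.smul_def]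
  · show extend (pushHom σ e) (T.baseChange B z) = T'.baseChange B (extend (pushHom σ e) z)
    induction z using TensorProduct.induction_on with
    | zero => simp
    | add x y hx hy => simp only [map_add, hx, hy]
    | tmul b x =>
      rw [LinearMap.baseChange_tmul, extend_tmul, extend_tmul, ← Algebra.smul_def, ← Algebra.smul_def, map_smul]
      congr 1
      show bcMap A' σ (e (1 ⊗ₜ T x)) = T'.baseChange B (bcMap A' σ (e (1 ⊗ₜ x)))
      rw [← bcMap_baseChange, ← heT, LinearMap.baseChange_tmul]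

end Transport

end

end Groth.Agent.AzInvLib
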