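import Groth.Agent.AzInvLib.Forms
import Mathlib.Data.Matrix.Composition

/-! Signs of involutions of split algebras. -/

namespace Groth.Agent.AzInvLib

open Matrix

noncomputable section

universe u v w w'

variable {H : Type u} {T : Type v} [CommRing H] [CommRing T] [Algebra H T] {L : T ≃+* T}
  (hL : Function.Involutive L) (hfix : RInv.IsFixedRing H T L) [IsLocalRing H]
  {A : Type w} [Ring A] [Algebra T A] {A' : Type w'} [Ring A'] [Algebra T A'] {n : ℕ}

/-- Transport of an involution along an isomorphism. -/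
def mapInv (f : A ≃ₐ[T] A') (t : AzInv.LamInv T A L) : AzInv.LamInv T A' L where
  toFun := fun a => f (t (f.symm a))
  map_add' := fun a b => by rw [map_add, t.map_add, map_add]
  map_mul' := fun a b => by rw [map_mul, t.map_mul, map_mul]
  map_smul' := fun r a => by rw [map_smul, t.map_smul, map_smul]
  invol' := fun a => by rw [f.symm_apply_apply, t.invol, f.apply_symm_apply]

theorem mapInv_apply (f : A ≃ₐ[T] A') (t : AzInv.LamInv T A L) (a : A) : mapInv f t (f a) = f (t a) := by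
  show f (t (f.symm (f a))) = f (t a)
  rw [f.symm_apply_apply]

theorem hasSign_congr {ε : T} {t : AzInv.LamInv T A L} {t' : AzInv.LamInv T A' L} (g : A ≃ₐ[T] A')
    (hg : ∀ a, g (t a) = t' (g a)) (h : HasSign L ε t) : HasSign L ε t' := by
  obtain ⟨k, f, h₀, hu, herm, hf⟩ := h
  refine ⟨k, g.symm.trans f, h₀, hu, herm, fun a => ?_⟩
  show f (g.symm (t' a)) = adj L h₀ (f (g.symm a))
  rw [← hf]
  congr 1
  apply g.injective
  rw [g.apply_symm_apply, hg, g.apply_symm_apply]

include hL hfix in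
theorem size_eq {k : ℕ} (f : A ≃ₐ[T] Matrix (Fin k) (Fin k) T) (f₀ : A ≃ₐ[T] Matrix (Fin n) (Fin n) T) : k = n := by
  haveI := nontrivial_of_fixed hL hfix
  have h := (f.symm.trans f₀).toLinearEquiv.finrank_eq
  rw [Module.finrank_matrix, Module.finrank_matrix, Module.finrank_self, Fintype.card_fin, Fintype.card_fin,
    mul_one, mul_one] at h
  exact Nat.mul_self_inj.mp h

include hL hfix in
/-- An involution of a split algebra has a sign. -/
theorem exists_hasSign (hn : 0 < n) (f₀ : A ≃ₐ[T] Matrix (Fin n) (Fin n) T)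
    (hcase : (∃ e : T, e * e = e ∧ L e = 1 - e) ∨ ((∀ x, L x - x ∈ Ring.jacobson T) ∧ (IsUnit (2 : T) ∨ Odd n)))
    (t : AzInv.LamInv T A L) : ∃ ε, Good L (Fin n) ε ∧ HasSign L ε t := by
  haveI : Nonempty (Fin n) := ⟨⟨0, hn⟩⟩
  obtain ⟨ε, h, hg, hu, herm, ht⟩ := exists_sign hL hfix (by rwa [Fintype.card_fin]) (mapInv f₀ t)
  exact ⟨ε, hg, n, f₀, h, hu, herm, fun a => by rw [← ht, mapInv_apply]⟩

theorem conj_adj {ι : Type*} [Fintype ι] [DecidableEq ι] (v h h' : Matrix ι ι T) (hv : IsUnit v) (hh : IsUnit h)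
    (hh' : IsUnit h') (hcg : RInvLib.cg L h v = h') (X : Matrix ι ι T) :
    v⁻¹ * adj L h X * v = adj L h' (v⁻¹ * X * v) := by
  have hvd := (Matrix.isUnit_iff_isUnit_det v).mp hv
  have hhd := (Matrix.isUnit_iff_isUnit_det h).mp hh
  obtain ⟨V, hV⟩ : ∃ V, V = (v.map L).transpose := ⟨_, rfl⟩
  have hVd : IsUnit V.det := by
    rw [hV, det_transpose, show v.map L = L.toRingHom.mapMatrix v from rfl, ← RingHom.map_det]
    exact hvd.map _
  have hinv : ((v⁻¹).map L).transpose = V⁻¹ := (Matrix.inv_eq_left_inv (by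
    rw [hV, ← map_transpose_mul, Matrix.mul_nonsing_inv _ hvd, map_one_transpose])).symm
  rw [adj, adj, map_transpose_mul, map_transpose_mul, hinv, ← hcg, RInvLib.cg, ← hV,
    Matrix.mul_inv_rev, Matrix.mul_inv_rev]
  simp only [Matrix.mul_assoc]
  rw [← Matrix.mul_assoc (V⁻¹) V, Matrix.nonsing_inv_mul _ hVd, Matrix.one_mul]
  rw [← Matrix.mul_assoc V⁻¹ V, Matrix.nonsing_inv_mul _ hVd, Matrix.one_mul]

variable (hsq : ∀ x : Hˣ, ∃ y : H, y * y = x)

include hL hfix hsq in
/-- Involutions of the same sign on split algebras of the same degree are isomorphic. -/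
theorem exists_iso_of_sign {ε : T} (hg : Good L (Fin n) ε) {t : AzInv.LamInv T A L} {t' : AzInv.LamInv T A' L}
    (f₀ : A ≃ₐ[T] Matrix (Fin n) (Fin n) T) (f₀' : A' ≃ₐ[T] Matrix (Fin n) (Fin n) T)
    (h : HasSign L ε t) (h' : HasSign L ε t') : ∃ g : A ≃ₐ[T] A', ∀ a, g (t a) = t' (g a) := by
  obtain ⟨k, f, h₀, hu, herm, hf⟩ := h
  obtain ⟨k', f', h₀', hu', herm', hf'⟩ := h'
  obtain rfl := size_eq hL hfix f f₀
  obtain rfl := size_eq hL hfix f' f₀'
  obtain ⟨v, hv, hcg⟩ := exists_cg_eq hL hfix hsq hg hu hu' herm herm'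
  have hvd := (Matrix.isUnit_iff_isUnit_det v).mp hv
  let c : Matrix (Fin k') (Fin k') T ≃ₐ[T] Matrix (Fin k') (Fin k') T :=
    AlgEquiv.ofAlgHom
      { toFun := fun X => v⁻¹ * X * v
        map_one' := by rw [Matrix.mul_one, Matrix.nonsing_inv_mul _ hvd]
        map_mul' := fun X Y => by
          simp only [Matrix.mul_assoc]; rw [← Matrix.mul_assoc v v⁻¹, Matrix.mul_nonsing_inv _ hvd, Matrix.one_mul]
        map_zero' := by simp
        map_add' := fun X Y => by rw [Matrix.mul_add, Matrix.add_mul]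
        commutes' := fun r => by
          rw [← Algebra.commutes r v⁻¹, Matrix.mul_assoc, Matrix.nonsing_inv_mul _ hvd, Matrix.mul_one] }
      { toFun := fun X => v * X * v⁻¹
        map_one' := by rw [Matrix.mul_one, Matrix.mul_nonsing_inv _ hvd]
        map_mul' := fun X Y => by
          simp only [Matrix.mul_assoc]; rw [← Matrix.mul_assoc v⁻¹ v, Matrix.nonsing_inv_mul _ hvd, Matrix.one_mul]
        map_zero' := by simp
        map_add' := fun X Y => by rw [Matrix.mul_add, Matrix.add_mul]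
        commutes' := fun r => by
          rw [← Algebra.commutes r v, Matrix.mul_assoc, Matrix.mul_nonsing_inv _ hvd, Matrix.mul_one] }
      (AlgHom.ext fun X => by
        show v⁻¹ * (v * X * v⁻¹) * v = X
        simp only [← Matrix.mul_assoc]
        rw [Matrix.nonsing_inv_mul _ hvd, Matrix.one_mul, Matrix.mul_assoc, Matrix.nonsing_inv_mul _ hvd, Matrix.mul_one])
      (AlgHom.ext fun X => by
        show v * (v⁻¹ * X * v) * v⁻¹ = X
        simp only [← Matrix.mul_assoc]
        rw [Matrix.mul_nonsing_inv _ hvd, Matrix.one_mul, Matrix.mul_assoc, Matrix.mul_nonsing_inv _ hvd, Matrix.mul_one])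
  refine ⟨f.trans (c.trans f'.symm), fun a => ?_⟩
  apply f'.injective
  rw [hf']
  show f' (f'.symm (c (f (t a)))) = adj L h₀' (f' (f'.symm (c (f a))))
  rw [f'.apply_symm_apply, f'.apply_symm_apply, hf]
  exact conj_adj v h₀ h₀' hv hu hu' hcg (f a)

include hL hfix in
/-- At a ramified point with two invertible the sign is unique. -/
theorem sign_unique (hid : ∀ x, L x - x ∈ Ring.jacobson T) (h2 : IsUnit (2 : T)) (hn : 0 < n)
    (f₀ : A ≃ₐ[T] Matrix (Fin n) (Fin n) T) {t : AzInv.LamInv T A L} (h : HasSign L 1 t) (h' : HasSign L (-1) t) :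
    False := by
  haveI := RInvLib.isLocalRing_of_forall hL hfix hid
  obtain ⟨k, f, h₀, hu, herm, hf⟩ := h
  obtain ⟨k', f', h₁, hu', herm', hf'⟩ := h'
  obtain rfl := size_eq hL hfix f f₀
  obtain rfl := size_eq hL hfix f' f₀
  haveI : Nonempty (Fin k') := ⟨⟨0, hn⟩⟩
  obtain ⟨l, hl, hlX⟩ := exists_conj hL hfix (f.symm.trans f')
  have hld := (Matrix.isUnit_iff_isUnit_det l).mp hl
  have hh₀d := (Matrix.isUnit_iff_isUnit_det h₀).mp hu
  have hh₁d := (Matrix.isUnit_iff_isUnit_det h₁).mp hu'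
  have hf'X : ∀ a, f' a = l * f a * l⁻¹ := fun a => by
    have e := hlX (f a)
    rw [show (f.symm.trans f') (f a) = f' a by simp] at e
    rw [← e, Matrix.mul_assoc, Matrix.mul_nonsing_inv _ hld, Matrix.mul_one]
  obtain ⟨h₂, hh₂⟩ : ∃ h₂, h₂ = RInvLib.cg L h₁ l := ⟨_, rfl⟩
  have hu₂ : IsUnit h₂ := hh₂ ▸ RInvLib.isUnit_cg L hu' hl
  have herm₂ : RInvLib.IsHerm L (-1) h₂ := hh₂ ▸ herm'.cg hL l
  have key : ∀ X, adj L h₀ X = adj L h₂ X := fun X => by
    obtain ⟨a, rfl⟩ := f.surjective X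
    rw [← hf]
    have e := hf' a
    rw [hf'X, hf'X] at e
    have h1 := congrArg (fun Z => l⁻¹ * Z * l) e
    simp only [conj_adj l h₁ h₂ hl hu' hu₂ hh₂.symm] at h1
    simp only [← Matrix.mul_assoc, Matrix.nonsing_inv_mul _ hld, Matrix.one_mul] at h1
    simp only [Matrix.mul_assoc, Matrix.nonsing_inv_mul _ hld, Matrix.mul_one] at h1
    exact h1
  have hcomm : ∀ Y, (h₂ * h₀⁻¹) * Y = Y * (h₂ * h₀⁻¹) := fun Y => by
    have e := key (Y.map L).transpose
    rw [adj, adj, map_transpose_map_transpose hL] at e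
    have h2d := (Matrix.isUnit_iff_isUnit_det h₂).mp hu₂
    calc (h₂ * h₀⁻¹) * Y = h₂ * (h₀⁻¹ * Y * h₀) * h₀⁻¹ := by
          simp only [Matrix.mul_assoc, Matrix.mul_nonsing_inv _ hh₀d, Matrix.mul_one]
      _ = Y * (h₂ * h₀⁻¹) := by
          rw [e]; simp only [← Matrix.mul_assoc, Matrix.mul_nonsing_inv _ h2d, Matrix.one_mul]
  obtain ⟨a, ha⟩ := exists_scalar_of_commute _ hcomm
  have h2eq : h₂ = a • h₀ := by
    calc h₂ = h₂ * h₀⁻¹ * h₀ := by rw [Matrix.mul_assoc, Matrix.nonsing_inv_mul _ hh₀d, Matrix.mul_one]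
      _ = a • h₀ := by rw [ha, Matrix.smul_mul, Matrix.one_mul]
  have hau : IsUnit a := by
    have := (Matrix.isUnit_iff_isUnit_det h₂).mp hu₂
    rw [h2eq, det_smul] at this
    exact (isUnit_pow_iff (by rw [Fintype.card_fin]; omega)).mp (isUnit_of_mul_isUnit_left this)
  have e : h₂ = -(L a • h₀) := by
    conv_lhs => rw [← (herm₂ : (-1 : T) • (h₂.map L).transpose = h₂), h2eq, Matrix.map_smul' _ _ _ (map_mul L),
      transpose_smul, show (h₀.map L).transpose = h₀ by simpa [RInvLib.IsHerm] using herm]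
    rw [neg_one_smul]
  rw [h2eq, ← neg_smul] at e
  have e2 := congrArg (fun M => (M * h₀⁻¹) ⟨0, hn⟩ ⟨0, hn⟩) e
  simp only [Matrix.smul_mul, Matrix.mul_nonsing_inv _ hh₀d, Matrix.smul_apply, Matrix.one_apply_eq, smul_eq_mul,
    mul_one] at e2
  refine IsLocalRing.notMem_maximalIdeal.mpr (h2.mul hau) ?_
  have h3 := RInvLib.mem_of_mem_jacobson (hid a) (IsLocalRing.maximalIdeal T)
  convert Ideal.neg_mem_iff _ |>.mpr h3 using 1
  linear_combination e2

/-- The sign of the involution induced on matrices. -/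
theorem hasSign_matrix {ε : T} {t : AzInv.LamInv T A L} (h : HasSign L ε t) (m : ℕ) :
    HasSign L ε (t.matrix (Fin m)) := by
  obtain ⟨k, f, h₀, hu, herm, hf⟩ := h
  have hd := (Matrix.isUnit_iff_isUnit_det h₀).mp hu
  let F : Matrix (Fin m) (Fin m) A ≃ₐ[T] Matrix (Fin m × Fin k) (Fin m × Fin k) T :=
    f.mapMatrix.trans (Matrix.compAlgEquiv (Fin m) (Fin k) T T)
  let h₁ : Matrix (Fin m × Fin k) (Fin m × Fin k) T :=
    (blockDiagonal fun _ : Fin m => h₀).submatrix (Equiv.prodComm _ _) (Equiv.prodComm _ _)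
  have h₁inv : h₁⁻¹ = (blockDiagonal fun _ : Fin m => h₀⁻¹).submatrix (Equiv.prodComm _ _) (Equiv.prodComm _ _) :=
    Matrix.inv_eq_left_inv (by
      rw [submatrix_mul_equiv, ← blockDiagonal_mul]
      simp only [Matrix.nonsing_inv_mul _ hd]
      rw [show (fun _ : Fin m => (1 : Matrix (Fin k) (Fin k) T)) = 1 from rfl, blockDiagonal_one, submatrix_one_equiv])
  have h₁u : IsUnit h₁ := by
    refine RInvLib.isUnit_submatrix ?_ _
    refine IsUnit.of_mul_eq_one (blockDiagonal fun _ : Fin m => h₀⁻¹) ?_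
    rw [← blockDiagonal_mul]
    simp only [Matrix.mul_nonsing_inv _ hd]
    exact blockDiagonal_one
  refine hasSign_of _ F h₁ h₁u (RInvLib.isHerm_of_apply fun x y => ?_) fun M => ?_
  · obtain ⟨i, a⟩ := x
    obtain ⟨j, b⟩ := y
    show ε * L (blockDiagonal (fun _ : Fin m => h₀) (b, j) (a, i)) = blockDiagonal (fun _ : Fin m => h₀) (a, i) (b, j)
    rw [blockDiagonal_apply, blockDiagonal_apply]
    by_cases hij : i = j
    · subst hij; simpa using herm.apply a b
    · simp [hij, Ne.symm hij]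
  · ext ⟨i, a⟩ ⟨j, b⟩
    show f (t (M j i)) a b = adj L h₁ (F M) (i, a) (j, b)
    rw [hf, adj, adj, h₁inv]
    simp only [h₁, Matrix.mul_apply, submatrix_apply, blockDiagonal_apply, Equiv.prodComm_apply, Prod.fst_swap,
      Prod.snd_swap, transpose_apply, Matrix.map_apply, Fintype.sum_prod_type, ite_mul, zero_mul, mul_ite, mul_zero,
      Finset.sum_ite_irrel, Finset.sum_const_zero, Finset.sum_ite_eq, Finset.sum_ite_eq', Finset.mem_univ, if_true]
    rfl

end

end Groth.Agent.AzInvLib
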