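import Groth.Agent.AzInvLib.Mat
import Groth.Agent.AzInvLib.Sign
import Groth.Agent.AzInvLib.PointHom

/-! Involutions of Azumaya algebras at geometric points. -/

namespace Groth.Agent.AzInvLib

open scoped TensorProduct
open Hensel

attribute [local instance] Algebra.TensorProduct.rightAlgebra

noncomputable section

universe u v w w' z

section MatAlg

variable (R : Type v) [CommRing R] (T : Type z) [CommRing T] [Algebra R T] (A : Type w) [Ring A] [Algebra R A] (m : ℕ)

/-- Base change of matrices over an algebra. -/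
def matAlgHom : T ⊗[R] Matrix (Fin m) (Fin m) A →ₐ[T] Matrix (Fin m) (Fin m) (T ⊗[R] A) :=
  Algebra.TensorProduct.lift (Algebra.ofId T _)
    (Algebra.TensorProduct.includeRight : A →ₐ[R] T ⊗[R] A).mapMatrix fun b _ => Algebra.commutes b _

theorem matAlgHom_tmul (b : T) (M : Matrix (Fin m) (Fin m) A) (i j : Fin m) :
    matAlgHom R T A m (b ⊗ₜ M) i j = b ⊗ₜ M i j := by
  simp [matAlgHom, Algebra.ofId_apply, ← Algebra.smul_def, TensorProduct.smul_tmul']

/-- The inverse map. -/
def matAlgInv (M : Matrix (Fin m) (Fin m) (T ⊗[R] A)) : T ⊗[R] Matrix (Fin m) (Fin m) A :=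
  ∑ i, ∑ j, LinearMap.lTensor T (Matrix.singleLinearMap R i j) (M i j)

theorem matAlg_bijective : Function.Bijective (matAlgHom R T A m) := by
  refine Function.bijective_iff_has_inverse.mpr ⟨matAlgInv R T A m, fun z => ?_, fun M => ?_⟩
  · induction z using TensorProduct.induction_on with
    | zero => simp [matAlgInv]
    | add x y hx hy =>
      conv_rhs => rw [← hx, ← hy]
      simp [matAlgInv, Finset.sum_add_distrib]
    | tmul b M =>
      simp only [matAlgInv, matAlgHom_tmul, LinearMap.lTensor_tmul, ← TensorProduct.tmul_sum]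
      congr 1
      exact (Matrix.matrix_eq_sum_single M).symm
  · ext i j
    have key : ∀ (a c : Fin m) (z : T ⊗[R] A), matAlgHom R T A m
        (LinearMap.lTensor T (Matrix.singleLinearMap R a c) z) i j = if a = i ∧ c = j then z else 0 := fun a c z => by
      induction z using TensorProduct.induction_on with
      | zero => simp
      | add x y hx hy => rw [map_add, map_add, Matrix.add_apply, hx, hy]; split_ifs <;> simp
      | tmul b r =>
        rw [LinearMap.lTensor_tmul, matAlgHom_tmul]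
        simp only [Matrix.singleLinearMap_apply, Matrix.single_apply]
        split_ifs <;> simp
    simp only [matAlgInv, map_sum, Matrix.sum_apply, key, ite_and, Finset.sum_ite_eq', Finset.mem_univ, if_true,
      Finset.sum_ite_irrel, Finset.sum_const_zero]

/-- Base change of matrices over an algebra, as an equivalence. -/
def matAlg : T ⊗[R] Matrix (Fin m) (Fin m) A ≃ₐ[T] Matrix (Fin m) (Fin m) (T ⊗[R] A) :=
  AlgEquiv.ofBijective (matAlgHom R T A m) (matAlg_bijective R T A m)

theorem matAlg_tmul (b : T) (M : Matrix (Fin m) (Fin m) A) (i j : Fin m) :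
    matAlg R T A m (b ⊗ₜ M) i j = b ⊗ₜ M i j := matAlgHom_tmul R T A m b M i j

end MatAlg

section Point

variable {S : Type u} [CommRing S] {R : Type v} [CommRing R] [Algebra S R] {lam : R ≃ₐ[S] R}
  (hlam : ∀ r, lam (lam r) = r) (hfix : RInv.IsFixedRing S R lam.toRingEquiv)
  {A : Type w} [Ring A] [Algebra R A] {A' : Type w'} [Ring A'] [Algebra R A'] {n : ℕ}
  (L : Type u) [Field L] [Algebra S L]

/-- The involution at a geometric point. -/
abbrev ptLam (lam : R ≃ₐ[S] R) : Henz S L ⊗[S] R ≃+* Henz S L ⊗[S] R :=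
  (RInvLib.bcLam (Henz S L) lam).toRingEquiv

/-- The fibre involution at a geometric point. -/
def ptInv (hlam : ∀ r, lam (lam r) = r) (t : AzInv.LamInv R A lam) :
    AzInv.LamInv (Henz S L ⊗[S] R) ((Henz S L ⊗[S] R) ⊗[R] A) (ptLam L lam) :=
  bcLamInv _ (RInvLib.bcLam_involutive (Henz S L) lam hlam) (fun r => RInvLib.bcLam_tmul (Henz S L) lam 1 r) t

theorem ptInv_tmul (t : AzInv.LamInv R A lam) (x : Henz S L ⊗[S] R) (a : A) :
    ptInv L hlam t (x ⊗ₜ a) = ptLam L lam x ⊗ₜ t a := rfl

/-- The sign of an involution at a geometric point. -/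
def PtSign (ε : Henz S L ⊗[S] R) (t : AzInv.LamInv R A lam) : Prop := HasSign (ptLam L lam) ε (ptInv L hlam t)

/-- The cases in which signs exist. -/
def PtCase (lam : R ≃ₐ[S] R) (n : ℕ) : Prop :=
  (∃ e : Henz S L ⊗[S] R, e * e = e ∧ ptLam L lam e = 1 - e) ∨
    ((∀ x, ptLam L lam x - x ∈ Ring.jacobson (Henz S L ⊗[S] R)) ∧ (IsUnit (2 : Henz S L ⊗[S] R) ∨ Odd n))

/-- Units of the ring of the point are squares. -/
def PtSquares : Prop := ∀ x : (Henz S L)ˣ, ∃ y : Henz S L, y * y = x

variable [IsAlgClosed L]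

include hlam hfix in
theorem ptCase (hcond : IsUnit (2 : S) ∨ RInv.IsQuadEtale S R ∨ Odd n) : PtCase L lam n := by
  rcases idem_or_ramified (RInvLib.bcLam_involutive (Henz S L) lam hlam) (isFixedRing_point (L := L) hlam hfix) with
    h | hid
  · exact Or.inl h
  rcases hcond with h2 | hq | ho
  · refine Or.inr ⟨hid, Or.inl ?_⟩
    have h2' := h2.map (algebraMap S (Henz S L ⊗[S] R))
    rwa [map_ofNat] at h2'
  · exfalso
    obtain ⟨hfin, hproj, hunr, hrk⟩ := hq
    refine RInvLib.not_isQuadEtale_of_forall (RInvLib.bcLam_involutive (Henz S L) lam hlam)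
      (isFixedRing_point (L := L) hlam hfix) hid ⟨inferInstance, inferInstance, inferInstance, fun p => ?_⟩
    rw [Module.rankAtStalk_baseChange, hrk]
  · exact Or.inr ⟨hid, Or.inr ho⟩

theorem ptSquares_of_two (h2 : IsUnit (2 : S)) : PtSquares (S := S) L := fun x =>
  exists_sqrt_of_two (H := Henz S L) (by have h2' := h2.map (algebraMap S (Henz S L)); rwa [map_ofNat] at h2') (x : Henz S L) x.isUnit

theorem ptSquares_of_hsq (hsq : ∀ (S₁ : Type u) [CommRing S₁] [Algebra S S₁] [Algebra.Etale S S₁] (x : S₁ˣ),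
      ∃ (S₂ : Type u) (_ : CommRing S₂) (_ : Algebra S₁ S₂) (_ : Algebra.Etale S₁ S₂)
        (_ : Module.FaithfullyFlat S₁ S₂) (y : S₂), y * y = algebraMap S₁ S₂ ↑x) : PtSquares (S := S) L :=
  fun x => exists_sqrt_point hsq x

/-- The splitting of matrices over a split algebra. -/
theorem split_matrix (hA : Nonempty ((Henz S L ⊗[S] R) ⊗[R] A ≃ₐ[Henz S L ⊗[S] R]
      Matrix (Fin n) (Fin n) (Henz S L ⊗[S] R))) (m : ℕ) :
    Nonempty ((Henz S L ⊗[S] R) ⊗[R] Matrix (Fin m) (Fin m) A ≃ₐ[Henz S L ⊗[S] R]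
      Matrix (Fin (m * n)) (Fin (m * n)) (Henz S L ⊗[S] R)) :=
  ⟨(matAlg R _ A m).trans (hA.some.mapMatrix.trans ((Matrix.compAlgEquiv (Fin m) (Fin n) _ _).trans
    (Matrix.reindexAlgEquiv _ _ finProdFinEquiv)))⟩

theorem ptSign_matrix {ε : Henz S L ⊗[S] R} {t : AzInv.LamInv R A lam} (h : PtSign hlam L ε t) (m : ℕ) :
    PtSign hlam L ε (t.matrix (Fin m)) := by
  refine hasSign_congr (matAlg R _ A m).symm (fun X => ?_) (hasSign_matrix h m)
  obtain ⟨Y, rfl⟩ := (matAlg R (Henz S L ⊗[S] R) A m).surjective X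
  apply (matAlg R (Henz S L ⊗[S] R) A m).injective
  rw [AlgEquiv.apply_symm_apply, AlgEquiv.symm_apply_apply]
  induction Y using TensorProduct.induction_on with
  | zero => simp
  | add x y hx hy => simp only [map_add, AzInv.LamInv.map_add, hx, hy]
  | tmul x M =>
    ext i j
    rw [AzInv.LamInv.matrix_apply, ptInv_tmul, matAlg_tmul, matAlg_tmul, ptInv_tmul, AzInv.LamInv.matrix_apply]

/-- The identity involution of the ring has sign one. -/
theorem ptSign_self : PtSign hlam L 1 (AzInv.LamInv.self lam hlam) := by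
  let T := Henz S L ⊗[S] R
  let f : T ⊗[R] R ≃ₐ[T] Matrix (Fin 1) (Fin 1) T :=
    (Algebra.TensorProduct.rid R T T).trans (AlgEquiv.ofBijective (Algebra.ofId T (Matrix (Fin 1) (Fin 1) T))
      ⟨fun a b h => by simpa [Algebra.ofId_apply, Matrix.algebraMap_matrix_apply] using congrFun (congrFun h 0) 0,
        fun M => ⟨M 0 0, by
          ext i j; rw [Subsingleton.elim i 0, Subsingleton.elim j 0]
          simp [Algebra.ofId_apply, Matrix.algebraMap_matrix_apply]⟩⟩)
  refine hasSign_of _ f 1 isUnit_one (RInvLib.isHerm_of_apply fun i j => by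
    rw [one_mul, Subsingleton.elim i j]; simp) fun a => ?_
  induction a using TensorProduct.induction_on with
  | zero => simp [adj]
  | add x y hx hy =>
    simp only [AzInv.LamInv.map_add, map_add, hx, hy]
    simp [adj, Matrix.map_add]
  | tmul x r =>
    ext i j
    rw [ptInv_tmul]
    simp only [adj, inv_one, Matrix.one_mul, Matrix.mul_one, Matrix.transpose_apply, Matrix.map_apply]
    rw [Subsingleton.elim i j]
    simp [f, Algebra.ofId_apply, Matrix.algebraMap_matrix_apply]
    rw [Algebra.smul_def, Algebra.smul_def, map_mul]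
    rfl

variable {L}

include hfix in
/-- An involution has a sign at a geometric point. -/
theorem exists_ptSign (hn : 0 < n)
    (hA : Nonempty ((Henz S L ⊗[S] R) ⊗[R] A ≃ₐ[Henz S L ⊗[S] R] Matrix (Fin n) (Fin n) (Henz S L ⊗[S] R)))
    (hcase : PtCase L lam n) (t : AzInv.LamInv R A lam) :
    ∃ ε, Good (ptLam L lam) (Fin n) ε ∧ PtSign hlam L ε t :=
  exists_hasSign (RInvLib.bcLam_involutive (Henz S L) lam hlam) (isFixedRing_point hlam hfix) hn hA.some hcase _

include hfix in
theorem ptSign_unique (hid : ∀ x, ptLam L lam x - x ∈ Ring.jacobson (Henz S L ⊗[S] R))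
    (h2 : IsUnit (2 : Henz S L ⊗[S] R)) (hn : 0 < n)
    (hA : Nonempty ((Henz S L ⊗[S] R) ⊗[R] A ≃ₐ[Henz S L ⊗[S] R] Matrix (Fin n) (Fin n) (Henz S L ⊗[S] R)))
    {t : AzInv.LamInv R A lam} (h : PtSign hlam L 1 t) (h' : PtSign hlam L (-1) t) : False :=
  sign_unique (RInvLib.bcLam_involutive (Henz S L) lam hlam) (isFixedRing_point hlam hfix) hid h2 hn hA.some h h'

variable [Algebra S A] [IsScalarTower S R A] [Algebra S A'] [IsScalarTower S R A']

include hfix in
/-- Involutions of the same sign are isomorphic at the point. -/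
theorem exists_iso_point (hsq : PtSquares (S := S) L) {ε : Henz S L ⊗[S] R} (hg : Good (ptLam L lam) (Fin n) ε)
    (hA : Nonempty ((Henz S L ⊗[S] R) ⊗[R] A ≃ₐ[Henz S L ⊗[S] R] Matrix (Fin n) (Fin n) (Henz S L ⊗[S] R)))
    (hA' : Nonempty ((Henz S L ⊗[S] R) ⊗[R] A' ≃ₐ[Henz S L ⊗[S] R] Matrix (Fin n) (Fin n) (Henz S L ⊗[S] R)))
    {t : AzInv.LamInv R A lam} {t' : AzInv.LamInv R A' lam} (h : PtSign hlam L ε t) (h' : PtSign hlam L ε t') :
    ∃ e : Henz S L ⊗[S] A ≃ₐ[Henz S L] Henz S L ⊗[S] A',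
      (∀ (r : R) z, e (rho A _ r * z) = rho A' _ r * e z) ∧
        ∀ z, e ((t.linS S lam).baseChange _ z) = (t'.linS S lam).baseChange _ (e z) := by
  obtain ⟨g, hg⟩ := exists_iso_of_sign (RInvLib.bcLam_involutive (Henz S L) lam hlam) (isFixedRing_point hlam hfix)
    hsq hg hA.some hA'.some h h'
  exact ⟨ofFibre g, ofFibre_rho g, fun z => ofFibre_bc lam hlam t t' g hg z⟩

/-- Isomorphisms over covers respect signs. -/
theorem ptSign_of_locIso {t : AzInv.LamInv R A lam} {t' : AzInv.LamInv R A' lam} (h : AzInv.LocIsoEt S lam t t')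
    {ε : Henz S L ⊗[S] R} (hε : PtSign hlam L ε t) : PtSign hlam L ε t' := by
  obtain ⟨S', _, _, _, _, e, he, het⟩ := h
  obtain ⟨σ⟩ := exists_pt_hom (S := S) (L := L) S'
  obtain ⟨f, hf, hft⟩ := exists_push σ (t.linS S lam) (t'.linS S lam) e he het
  let br := bridge (S := S) (R := R) (Henz S L) A
  let br' := bridge (S := S) (R := R) (Henz S L) A'
  let g₀ : (Henz S L ⊗[S] R) ⊗[R] A ≃+* (Henz S L ⊗[S] R) ⊗[R] A' := br.symm.trans (f.toRingEquiv.trans br')
  let g := AlgEquiv.ofRingEquiv (R := Henz S L ⊗[S] R) (f := g₀) fun x => by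
    induction x using TensorProduct.induction_on with
    | zero => simp
    | add x y hx hy => simp only [map_add, hx, hy]
    | tmul h r =>
      rw [show h ⊗ₜ[S] r = (h ⊗ₜ[S] (1 : R)) * ((1 : Henz S L) ⊗ₜ[S] r) by simp,
        map_mul (algebraMap (Henz S L ⊗[S] R) ((Henz S L ⊗[S] R) ⊗[R] A)), map_mul g₀,
        map_mul (algebraMap (Henz S L ⊗[S] R) ((Henz S L ⊗[S] R) ⊗[R] A')),
        ← bridge_algebraMap, ← bridge_rho, ← bridge_algebraMap, ← bridge_rho, ← map_mul (bridge (Henz S L) A')]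
      show br' (f (br.symm (br _))) * br' (f (br.symm (br _))) = br' _
      rw [br.symm_apply_apply, br.symm_apply_apply, ← map_mul br', f.commutes]
      congr 1
      congr 1
      have := hf r 1
      rwa [mul_one, map_one, mul_one] at this
  refine hasSign_congr g (fun z => ?_) hε
  obtain ⟨z, rfl⟩ := br.surjective z
  show br' (f (br.symm (ptInv L hlam t (br z)))) = ptInv L hlam t' (br' (f (br.symm (br z))))
  rw [br.symm_apply_apply]
  have h1 : br (t.bc S lam (Henz S L) z) = ptInv L hlam t (br z) := bridge_bc lam hlam t z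
  have h2 : br' (t'.bc S lam (Henz S L) (f z)) = ptInv L hlam t' (br' (f z)) := bridge_bc lam hlam t' (f z)
  rw [← h1, br.symm_apply_apply, ← h2]
  exact congrArg br' (hft z)

end Point

end

end Groth.Agent.AzInvLib
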