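import Mathlib.RingTheory.Spectrum.Prime.Chevalley
import Mathlib.RingTheory.Etale.Pi
import Mathlib.RingTheory.Smooth.Flat
import Mathlib.RingTheory.Ideal.GoingDown
import Mathlib.RingTheory.Flat.FaithfullyFlat.Algebra
import Mathlib.RingTheory.TensorProduct.Maps

/-! Patching etale local data on the spectrum of a ring. -/

namespace Groth.Agent.AzInvLib

open scoped TensorProduct

universe u v w

variable {S : Type u} [CommRing S]

/-- Finitely many etale algebras whose spectra cover give a faithfully flat product. -/
theorem exists_etale_cover (P : ∀ (B : Type u) [CommRing B] [Algebra S B], Prop)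
    (h : ∀ p : PrimeSpectrum S, ∃ (B : Type u) (_ : CommRing B) (_ : Algebra S B),
      Algebra.Etale S B ∧ P B ∧ p ∈ Set.range (PrimeSpectrum.comap (algebraMap S B))) :
    ∃ (ι : Type u) (_ : Fintype ι) (_ : DecidableEq ι) (B : ι → Type u) (_ : ∀ i, CommRing (B i))
      (_ : ∀ i, Algebra S (B i)),
      (∀ i, P (B i)) ∧ Algebra.Etale S (∀ i, B i) ∧ Module.FaithfullyFlat S (∀ i, B i) := by
  classical
  choose B iR iA het hP hmem using h
  have hopen : ∀ p, IsOpen (Set.range (PrimeSpectrum.comap (algebraMap S (B p)))) := fun p =>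
    haveI := het p
    (PrimeSpectrum.isOpenMap_comap_of_hasGoingDown_of_finitePresentation (R := S) (S := B p)).isOpen_range
  obtain ⟨s, hs⟩ := isCompact_univ.elim_finite_subcover _ hopen fun p _ => Set.mem_iUnion.mpr ⟨p, hmem p⟩
  haveI : ∀ i : s, Algebra.Etale S (B i) := fun i => het i
  haveI het' : Algebra.Etale S (∀ i : s, B i) := inferInstance
  haveI : Module.Flat S (∀ i : s, B i) := inferInstance
  refine ⟨s, inferInstance, inferInstance, fun i => B i, inferInstance, inferInstance, fun i => hP i, het',
    Module.FaithfullyFlat.of_comap_surjective fun q => ?_⟩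
  obtain ⟨i, hi⟩ := Set.mem_iUnion.mp (hs (Set.mem_univ q))
  obtain ⟨hi, q', hq'⟩ := Set.mem_iUnion.mp hi
  refine ⟨PrimeSpectrum.comap (Pi.evalRingHom (fun i : s => B i) ⟨i, hi⟩) q', ?_⟩
  rw [← PrimeSpectrum.comap_comp_apply, ← hq']
  rfl

section Glue

variable {ι : Type u} [Fintype ι] [DecidableEq ι] (B : ι → Type v) [∀ i, CommRing (B i)] [∀ i, Algebra S (B i)]
  {A : Type w} [Ring A] [Algebra S A]

/-- The embedding of a factor of a base change to a product. -/
noncomputable def emb (i : ι) : B i ⊗[S] A →ₗ[S] (∀ j, B j) ⊗[S] A :=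
  (LinearMap.single S B i).rTensor A

/-- The projection to a factor of a base change to a product. -/
noncomputable def proj (i : ι) : (∀ j, B j) ⊗[S] A →ₐ[S] B i ⊗[S] A :=
  Algebra.TensorProduct.map (Pi.evalAlgHom S B i) (AlgHom.id S A)

theorem emb_mul_emb (i : ι) (x y : B i ⊗[S] A) : emb B i x * emb B i y = emb B i (x * y) := by
  induction x using TensorProduct.induction_on with
  | zero => simp
  | add x x' hx hx' => rw [map_add, add_mul, hx, hx', add_mul, map_add]
  | tmul b a =>
    induction y using TensorProduct.induction_on with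
    | zero => simp
    | add y y' hy hy' => rw [map_add, mul_add, hy, hy', mul_add, map_add]
    | tmul b' a' =>
      simp only [emb, LinearMap.rTensor_tmul, Algebra.TensorProduct.tmul_mul_tmul, LinearMap.single_apply,
        ← Pi.single_mul]

theorem emb_mul_emb_of_ne {i j : ι} (hij : i ≠ j) (x : B i ⊗[S] A) (y : B j ⊗[S] A) :
    emb B i x * emb B j y = 0 := by
  induction x using TensorProduct.induction_on with
  | zero => simp
  | add x x' hx hx' => rw [map_add, add_mul, hx, hx', add_zero]
  | tmul b a =>
    induction y using TensorProduct.induction_on with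
    | zero => simp
    | add y y' hy hy' => rw [map_add, mul_add, hy, hy', add_zero]
    | tmul b' a' =>
      simp only [emb, LinearMap.rTensor_tmul, Algebra.TensorProduct.tmul_mul_tmul, LinearMap.single_apply]
      have h0 : Pi.single i b * Pi.single j b' = (0 : ∀ k, B k) := by
        funext k
        by_cases hk : k = i
        · subst hk; simp [hij]
        · simp [hk]
      rw [h0, TensorProduct.zero_tmul]

theorem proj_emb (i : ι) (x : B i ⊗[S] A) : proj B i (emb B i x) = x := by
  induction x using TensorProduct.induction_on with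
  | zero => simp
  | add x x' hx hx' => rw [map_add, map_add, hx, hx']
  | tmul b a => simp [emb, proj]

theorem proj_emb_of_ne {i j : ι} (hij : i ≠ j) (x : B i ⊗[S] A) : proj B j (emb B i x) = 0 := by
  induction x using TensorProduct.induction_on with
  | zero => simp
  | add x x' hx hx' => rw [map_add, map_add, hx, hx', add_zero]
  | tmul b a => simp [emb, proj, hij.symm]

theorem sum_emb_proj (z : (∀ j, B j) ⊗[S] A) : ∑ i, emb B i (proj B i z) = z := by
  induction z using TensorProduct.induction_on with
  | zero => simp
  | add x x' hx hx' => simp only [map_add, Finset.sum_add_distrib, hx, hx']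
  | tmul b a =>
    simp only [emb, proj, Algebra.TensorProduct.map_tmul, AlgHom.coe_id, id_eq, LinearMap.rTensor_tmul,
      LinearMap.single_apply, ← TensorProduct.sum_tmul]
    congr 1
    exact Finset.univ_sum_single b

/-- Gluing elements given on the factors. -/
noncomputable def glue (x : ∀ i, B i ⊗[S] A) : (∀ j, B j) ⊗[S] A := ∑ i, emb B i (x i)

theorem proj_glue (x : ∀ i, B i ⊗[S] A) (i : ι) : proj B i (glue B x) = x i := by
  rw [glue, map_sum, Finset.sum_eq_single i (fun j _ hj => proj_emb_of_ne B hj _) (by simp), proj_emb]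

theorem ext_proj {x y : (∀ j, B j) ⊗[S] A} (h : ∀ i, proj B i x = proj B i y) : x = y := by
  rw [← sum_emb_proj B x, ← sum_emb_proj B y]
  exact Finset.sum_congr rfl fun i _ => by rw [h i]

/-- Gluing units given on the factors. -/
noncomputable def glueUnit (x : ∀ i, (B i ⊗[S] A)ˣ) : ((∀ j, B j) ⊗[S] A)ˣ where
  val := glue B fun i => x i
  inv := glue B fun i => ↑(x i)⁻¹
  val_inv := ext_proj B fun i => by simp [proj_glue]
  inv_val := ext_proj B fun i => by simp [proj_glue]

end Glue

end Groth.Agent.AzInvLib
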