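import Groth.Agent.AzInvLib.Local
import Groth.Agent.AzInvLib.Spread
import Groth.Agent.RInvLib.Base
import Groth.Agent.RInvLib.StrictHensel
import Groth.Agent.S15578

/-! Passing between algebras over the fixed ring and over the ring with involution. -/

namespace Groth.Agent.AzInvLib

open scoped TensorProduct
open Hensel

attribute [local instance] Algebra.TensorProduct.rightAlgebra

noncomputable section

universe u v w w' z

variable {S : Type u} [CommRing S] {R : Type v} [CommRing R] [Algebra S R]
  (H : Type u) [CommRing H] [Algebra S H]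
  (A : Type w) [Ring A] [Algebra S A] [Algebra R A] [IsScalarTower S R A]

/-- The map from the base change over the fixed ring to the base change over the ring. -/
def bridgeHom : H ⊗[S] A →ₐ[S] (H ⊗[S] R) ⊗[R] A :=
  Algebra.TensorProduct.lift
    ((Algebra.TensorProduct.includeLeft : (H ⊗[S] R) →ₐ[S] (H ⊗[S] R) ⊗[R] A).comp
      (Algebra.TensorProduct.includeLeft : H →ₐ[S] H ⊗[S] R))
    ((Algebra.TensorProduct.includeRight : A →ₐ[R] (H ⊗[S] R) ⊗[R] A).restrictScalars S)
    fun h a => by
      show ((h ⊗ₜ[S] (1 : R)) ⊗ₜ[R] (1 : A)) * ((1 : H ⊗[S] R) ⊗ₜ[R] a) = ((1 : H ⊗[S] R) ⊗ₜ[R] a) * ((h ⊗ₜ[S] (1 : R)) ⊗ₜ[R] (1 : A))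
      simp

theorem bridgeHom_tmul (h : H) (a : A) :
    bridgeHom (R := R) H A (h ⊗ₜ a) = (h ⊗ₜ[S] (1 : R)) ⊗ₜ[R] a := by
  simp [bridgeHom]

/-- The inverse map. -/
def bridgeInv : (H ⊗[S] R) ⊗[R] A →+ H ⊗[S] A :=
  TensorProduct.liftAddHom
    { toFun := fun x =>
        { toFun := fun a => Algebra.TensorProduct.map (AlgHom.id S H) (IsScalarTower.toAlgHom S R A) x * (1 ⊗ₜ a)
          map_zero' := by simp
          map_add' := fun a b => by rw [TensorProduct.tmul_add, mul_add] }
      map_zero' := by ext; simp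
      map_add' := fun x y => by ext; simp [add_mul] }
    fun r x a => by
      show Algebra.TensorProduct.map (AlgHom.id S H) (IsScalarTower.toAlgHom S R A) (r • x) * ((1 : H) ⊗ₜ[S] a) =
        Algebra.TensorProduct.map (AlgHom.id S H) (IsScalarTower.toAlgHom S R A) x * ((1 : H) ⊗ₜ[S] (r • a))
      rw [Algebra.smul_def r x, Algebra.TensorProduct.right_algebraMap_apply, mul_comm, map_mul, mul_assoc]
      simp [Algebra.smul_def]

/-- The base change over the fixed ring is the base change over the ring. -/
def bridge : H ⊗[S] A ≃+* (H ⊗[S] R) ⊗[R] A where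
  toFun := bridgeHom H A
  invFun := bridgeInv H A
  left_inv z := by
    induction z using TensorProduct.induction_on with
    | zero => simp
    | add x y hx hy => rw [map_add, map_add, hx, hy]
    | tmul h a => simp [bridgeHom_tmul, bridgeInv]
  right_inv z := by
    induction z using TensorProduct.induction_on with
    | zero => simp
    | add x y hx hy => rw [map_add, map_add, hx, hy]
    | tmul x a =>
      induction x using TensorProduct.induction_on with
      | zero => simp
      | add x y hx hy => rw [TensorProduct.add_tmul, map_add, map_add, hx, hy]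
      | tmul h r =>
        show bridgeHom H A (Algebra.TensorProduct.map _ _ (h ⊗ₜ[S] r) * (1 ⊗ₜ a)) = _
        rw [Algebra.TensorProduct.map_tmul, Algebra.TensorProduct.tmul_mul_tmul, mul_one, AlgHom.coe_id, id_eq,
          IsScalarTower.coe_toAlgHom', ← Algebra.smul_def, bridgeHom_tmul, TensorProduct.tmul_smul,
          TensorProduct.smul_tmul', Algebra.smul_def, Algebra.TensorProduct.right_algebraMap_apply,
          Algebra.TensorProduct.tmul_mul_tmul, one_mul, mul_one]
  map_mul' := map_mul _
  map_add' := map_add _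

variable {H A}

theorem bridge_tmul (h : H) (a : A) : bridge (R := R) H A (h ⊗ₜ a) = (h ⊗ₜ[S] (1 : R)) ⊗ₜ[R] a :=
  bridgeHom_tmul H A h a

theorem bridge_algebraMap (h : H) :
    bridge (R := R) H A (algebraMap H (H ⊗[S] A) h) =
      algebraMap (H ⊗[S] R) ((H ⊗[S] R) ⊗[R] A) (h ⊗ₜ 1) := by
  rw [Algebra.TensorProduct.algebraMap_apply, bridge_tmul, Algebra.TensorProduct.algebraMap_apply]
  rfl

theorem bridge_rho (r : R) :
    bridge (R := R) H A (rho A H r) = algebraMap (H ⊗[S] R) ((H ⊗[S] R) ⊗[R] A) (1 ⊗ₜ r) := by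
  rw [rho_apply, bridge_tmul, Algebra.TensorProduct.algebraMap_apply, Algebra.algebraMap_eq_smul_one,
    TensorProduct.tmul_smul, TensorProduct.smul_tmul', Algebra.smul_def,
    Algebra.TensorProduct.right_algebraMap_apply, Algebra.TensorProduct.tmul_mul_tmul]
  simp

section Transfer

variable {A' : Type w'} [Ring A'] [Algebra S A'] [Algebra R A'] [IsScalarTower S R A']

/-- An isomorphism over the ring gives one over the fixed ring. -/
def ofFibre (f : (H ⊗[S] R) ⊗[R] A ≃ₐ[H ⊗[S] R] (H ⊗[S] R) ⊗[R] A') : H ⊗[S] A ≃ₐ[H] H ⊗[S] A' :=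
  AlgEquiv.ofRingEquiv (f := ((bridge H A).trans f.toRingEquiv).trans (bridge (R := R) H A').symm) fun h => by
    show (bridge H A').symm (f (bridge H A (algebraMap H (H ⊗[S] A) h))) = _
    rw [bridge_algebraMap, f.commutes, RingEquiv.symm_apply_eq, bridge_algebraMap]

theorem bridge_ofFibre (f : (H ⊗[S] R) ⊗[R] A ≃ₐ[H ⊗[S] R] (H ⊗[S] R) ⊗[R] A') (z : H ⊗[S] A) :
    bridge H A' (ofFibre f z) = f (bridge H A z) := (bridge (R := R) H A').apply_symm_apply _

theorem ofFibre_rho (f : (H ⊗[S] R) ⊗[R] A ≃ₐ[H ⊗[S] R] (H ⊗[S] R) ⊗[R] A') (r : R) (z : H ⊗[S] A) :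
    ofFibre f (rho A H r * z) = rho A' H r * ofFibre f z := by
  apply (bridge (R := R) H A').injective
  rw [bridge_ofFibre, map_mul (bridge H A), map_mul f, bridge_rho, f.commutes, map_mul (bridge H A'),
    bridge_ofFibre, bridge_rho]

end Transfer

section Involution

/-- The base change of a semilinear involution. -/
def bcLamInv {R : Type v} [CommRing R] {T : Type z} [CommRing T] [Algebra R T] {A : Type w} [Ring A] [Algebra R A]
    {lam : R → R} (L : T ≃+* T) (hL : ∀ x, L (L x) = x) (hLr : ∀ r, L (algebraMap R T r) = algebraMap R T (lam r))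
    (t : AzInv.LamInv R A lam) : AzInv.LamInv T (T ⊗[R] A) L :=
  let F : T ⊗[R] A →+ T ⊗[R] A := TensorProduct.liftAddHom
    { toFun := fun x =>
        { toFun := fun a => L x ⊗ₜ[R] t a
          map_zero' := by simp
          map_add' := fun a b => by rw [t.map_add, TensorProduct.tmul_add] }
      map_zero' := by ext; simp
      map_add' := fun x y => by ext; simp [TensorProduct.add_tmul] }
    fun r x a => by
      show L (r • x) ⊗ₜ[R] t a = L x ⊗ₜ[R] t (r • a)
      rw [t.map_smul, ← TensorProduct.smul_tmul, Algebra.smul_def, map_mul, hLr, Algebra.smul_def]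
  { toFun := F
    map_add' := map_add F
    map_mul' := fun a b => by
      induction a using TensorProduct.induction_on with
      | zero => simp
      | add a a' ha ha' => simp only [add_mul, map_add, mul_add, ha, ha']
      | tmul x c =>
        induction b using TensorProduct.induction_on with
        | zero => simp
        | add b b' hb hb' => simp only [add_mul, map_add, mul_add, hb, hb']
        | tmul y d =>
          rw [Algebra.TensorProduct.tmul_mul_tmul]
          show L (x * y) ⊗ₜ[R] t (c * d) = L y ⊗ₜ[R] t d * L x ⊗ₜ[R] t c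
          rw [map_mul, t.map_mul, Algebra.TensorProduct.tmul_mul_tmul, mul_comm]
    map_smul' := fun s a => by
      induction a using TensorProduct.induction_on with
      | zero => simp
      | add a a' ha ha' => simp only [smul_add, map_add, ha, ha']
      | tmul x c =>
        rw [TensorProduct.smul_tmul']
        show L (s • x) ⊗ₜ[R] t c = L s • (L x ⊗ₜ[R] t c)
        rw [TensorProduct.smul_tmul', smul_eq_mul, map_mul, smul_eq_mul]
    invol' := fun a => by
      induction a using TensorProduct.induction_on with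
      | zero => simp
      | add a a' ha ha' => simp only [map_add, ha, ha']
      | tmul x c => show L (L x) ⊗ₜ[R] t (t c) = _; rw [hL, t.invol] }

theorem bcLamInv_tmul {R : Type v} [CommRing R] {T : Type z} [CommRing T] [Algebra R T] {A : Type w} [Ring A]
    [Algebra R A] {lam : R → R} (L : T ≃+* T) (hL : ∀ x, L (L x) = x)
    (hLr : ∀ r, L (algebraMap R T r) = algebraMap R T (lam r)) (t : AzInv.LamInv R A lam) (x : T) (a : A) :
    bcLamInv L hL hLr t (x ⊗ₜ a) = L x ⊗ₜ t a := rfl

variable (lam : R ≃ₐ[S] R) (hlam : ∀ r, lam (lam r) = r)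

/-- The involution of the fibre over a point. -/
def fibreInv (t : AzInv.LamInv R A lam) :
    AzInv.LamInv (H ⊗[S] R) ((H ⊗[S] R) ⊗[R] A) (RInvLib.bcLam H lam).toRingEquiv :=
  bcLamInv _ (RInvLib.bcLam_involutive H lam hlam) (fun r => RInvLib.bcLam_tmul H lam (1 : H) r) t

theorem bridge_bc (t : AzInv.LamInv R A lam) (z : H ⊗[S] A) :
    bridge H A (t.bc S lam H z) = fibreInv lam hlam t (bridge H A z) := by
  induction z using TensorProduct.induction_on with
  | zero => simp
  | add x y hx hy => simp only [map_add, hx, hy, AzInv.LamInv.map_add]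
  | tmul h a =>
    rw [AzInv.LamInv.bc_tmul, bridge_tmul, bridge_tmul]
    show _ = bcLamInv _ _ _ t _
    rw [bcLamInv_tmul]
    simp [RInvLib.bcLam_tmul]

theorem ofFibre_bc {A' : Type w'} [Ring A'] [Algebra S A'] [Algebra R A'] [IsScalarTower S R A']
    (t : AzInv.LamInv R A lam) (t' : AzInv.LamInv R A' lam)
    (f : (H ⊗[S] R) ⊗[R] A ≃ₐ[H ⊗[S] R] (H ⊗[S] R) ⊗[R] A')
    (hf : ∀ z, f (fibreInv lam hlam t z) = fibreInv lam hlam t' (f z)) (z : H ⊗[S] A) :
    ofFibre f (t.bc S lam H z) = t'.bc S lam H (ofFibre f z) := by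
  apply (bridge (R := R) H A').injective
  rw [bridge_ofFibre, bridge_bc lam hlam, hf, bridge_bc lam hlam, bridge_ofFibre]

end Involution

end

end Groth.Agent.AzInvLib
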