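import Groth.Agent.AzInvLib.Cover
import Groth.Agent.AzumayaX.SkolemNoether
import Groth.Agent.RInvLib.Basic

/-! Automorphisms of Azumaya algebras are inner locally on the fixed ring of an involution. -/

namespace Groth.Agent.AzInvLib

open scoped TensorProduct

universe u v w

variable {S : Type u} {R : Type v} [CommRing S] [CommRing R] [Algebra S R] {lam : R ≃+* R}
  {A : Type w} [Ring A] [Algebra S A] [Algebra R A] [IsScalarTower S R A]

/-- A linear map surjective on the fibres over a point of the fixed ring kills, up to a function not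
vanishing at the point, its cokernel. -/
theorem exists_smul_mem_range (hlam : Function.Involutive lam) (hS : RInv.IsFixedRing S R lam)
    [Module.Finite R A] (f : A →ₗ[R] A) (p : Ideal S) [p.IsPrime]
    (h : ∀ (q : Ideal R) [q.IsPrime], q.comap (algebraMap S R) = p →
      Function.Surjective (f.lTensor q.ResidueField)) :
    ∃ g : S, g ∉ p ∧ algebraMap S R g • (1 : A) ∈ LinearMap.range f := by
  haveI := RInvLib.isIntegral hlam hS
  let C := A ⧸ LinearMap.range f
  by_contra hc
  push Not at hc
  have hle : (Module.annihilator R C).comap (algebraMap S R) ≤ p := fun g hg => by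
    by_contra hgp
    rw [Ideal.mem_comap, Module.mem_annihilator] at hg
    refine hc g hgp ?_
    rw [← Submodule.Quotient.mk_eq_zero, Submodule.Quotient.mk_smul]
    exact hg _
  obtain ⟨q, hJq, hq, hqp⟩ := Ideal.exists_ideal_over_prime_of_isIntegral p (Module.annihilator R C) hle
  haveI : Subsingleton (q.ResidueField ⊗[R] C) := subsingleton_of_forall_eq 0 fun x => by
    obtain ⟨y, rfl⟩ := LinearMap.lTensor_surjective q.ResidueField (LinearMap.range f).mkQ_surjective x
    obtain ⟨b, hb⟩ := h q hqp y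
    rw [← hb, ← LinearMap.lTensor_comp_apply, LinearMap.range_mkQ_comp]
    simp
  have hmem : (⟨q, hq⟩ : PrimeSpectrum R) ∈ Module.support R C := by
    rw [Module.support_eq_zeroLocus]; exact hJq
  rw [Module.mem_support_iff_nontrivial_residueField_tensorProduct] at hmem
  haveI : Nontrivial (q.ResidueField ⊗[R] C) := hmem
  exact not_subsingleton (q.ResidueField ⊗[R] C) inferInstance

/-- Near a point of the fixed ring an intertwining element becomes invertible. -/
theorem exists_intertwiner_near (hlam : Function.Involutive lam) (hS : RInv.IsFixedRing S R lam)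
    [IsAzumaya R A] (ψ : A ≃ₐ[R] A) (p : Ideal S) [p.IsPrime] :
    ∃ (g : S) (l b b' : A), g ∉ p ∧ (∀ y, ψ y * l = l * y) ∧ l * b = algebraMap S A g ∧
      b' * l = algebraMap S A g := by
  obtain ⟨q₁, hq₁, hq₁p⟩ := RInvLib.exists_over hlam hS p
  obtain ⟨l, hl, hunit⟩ : ∃ l : A, (∀ y, ψ y * l = l * y) ∧
      ∀ (q : Ideal R) [q.IsPrime], q.comap (algebraMap S R) = p → IsUnit ((1 : q.ResidueField) ⊗ₜ[R] l) := by
    haveI := hq₁
    obtain ⟨l₁, hl₁, hu₁⟩ := AzumayaX.exists_intertwining_unit ψ q₁.ResidueField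
    haveI : (q₁.comap lam).IsPrime := Ideal.comap_isPrime _ _
    have hcases : ∀ (q : Ideal R) [q.IsPrime], q.comap (algebraMap S R) = p → q = q₁ ∨ q = q₁.comap lam :=
      fun q _ hq => RInvLib.eq_or_eq_comap hlam hS (hq.trans hq₁p.symm)
    by_cases he : q₁.comap lam = q₁
    · refine ⟨l₁, hl₁, fun q _ hq => ?_⟩
      obtain rfl : q = q₁ := (hcases q hq).elim id (fun e => e.trans he)
      exact hu₁
    · obtain ⟨l₂, hl₂, hu₂⟩ := AzumayaX.exists_intertwining_unit ψ (q₁.comap lam).ResidueField
      have hn1 : ¬ q₁.comap lam ≤ q₁ := fun hle => he (le_antisymm hle fun x hx =>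
        hle (show lam x ∈ q₁.comap lam by rw [Ideal.mem_comap, hlam x]; exact hx))
      have hn2 : ¬ q₁ ≤ q₁.comap lam := fun hle => he (le_antisymm (fun x hx => by
        have := hle (Ideal.mem_comap.mp hx)
        rwa [Ideal.mem_comap, hlam x] at this) hle)
      obtain ⟨a, ha2, ha1⟩ := SetLike.not_le_iff_exists.mp hn1
      obtain ⟨b, hb1, hb2⟩ := SetLike.not_le_iff_exists.mp hn2
      have hkill : ∀ (q : Ideal R) [q.IsPrime] (c : R) (m : A), c ∈ q → (1 : q.ResidueField) ⊗ₜ[R] (c • m) = 0 :=
        fun q _ c m hc => by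
          rw [TensorProduct.tmul_smul, TensorProduct.smul_tmul', Algebra.smul_def,
            Ideal.algebraMap_residueField_eq_zero.mpr hc, zero_mul, TensorProduct.zero_tmul]
      have hkeep : ∀ (q : Ideal R) [q.IsPrime] (c : R) (m : A), c ∉ q → IsUnit ((1 : q.ResidueField) ⊗ₜ[R] m) →
          IsUnit ((1 : q.ResidueField) ⊗ₜ[R] (c • m)) := fun q _ c m hc hm => by
        have h1 : IsUnit (algebraMap R q.ResidueField c) :=
          isUnit_iff_ne_zero.mpr fun h => hc (Ideal.algebraMap_residueField_eq_zero.mp h)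
        rw [show (1 : q.ResidueField) ⊗ₜ[R] (c • m) =
          algebraMap q.ResidueField (q.ResidueField ⊗[R] A) (algebraMap R q.ResidueField c) * (1 ⊗ₜ[R] m) by
            rw [Algebra.TensorProduct.algebraMap_apply, Algebra.TensorProduct.tmul_mul_tmul,
              TensorProduct.tmul_smul, TensorProduct.smul_tmul', Algebra.smul_def]
            simp]
        exact (h1.map _).mul hm
      refine ⟨a • l₁ + b • l₂, fun y => by simp only [mul_add, add_mul, mul_smul_comm, smul_mul_assoc, hl₁, hl₂],
        fun q _ hq => ?_⟩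
      rcases hcases q hq with rfl | rfl
      · rw [TensorProduct.tmul_add, hkill _ b l₂ hb1, add_zero]
        exact hkeep _ a l₁ ha1 hu₁
      · rw [TensorProduct.tmul_add, hkill _ a l₁ ha2, zero_add]
        exact hkeep _ b l₂ hb2 hu₂
  obtain ⟨g, hg, hgr⟩ := exists_smul_mem_range hlam hS (LinearMap.mulLeft R l) p fun q _ hq y => by
    obtain ⟨z, hz⟩ := (hunit q hq).exists_right_inv
    refine ⟨z * y, ?_⟩
    have hm : ∀ x : q.ResidueField ⊗[R] A, (LinearMap.mulLeft R l).lTensor _ x = (1 ⊗ₜ l) * x := fun x => by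
      induction x using TensorProduct.induction_on with
      | zero => simp
      | add a b ha hb => rw [map_add, mul_add, ha, hb]
      | tmul c a => simp
    rw [hm, ← mul_assoc, hz, one_mul]
  obtain ⟨g', hg', hgr'⟩ := exists_smul_mem_range hlam hS (LinearMap.mulRight R l) p fun q _ hq y => by
    obtain ⟨z, hz⟩ := (hunit q hq).exists_left_inv
    refine ⟨y * z, ?_⟩
    have hm : ∀ x : q.ResidueField ⊗[R] A, (LinearMap.mulRight R l).lTensor _ x = x * (1 ⊗ₜ l) := fun x => by
      induction x using TensorProduct.induction_on with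
      | zero => simp
      | add a b ha hb => rw [map_add, add_mul, ha, hb]
      | tmul c a => simp
    rw [hm, mul_assoc, hz, mul_one]
  obtain ⟨b, hb⟩ := hgr
  obtain ⟨b', hb'⟩ := hgr'
  simp only [LinearMap.mulLeft_apply, LinearMap.mulRight_apply, algebraMap_smul] at hb hb'
  refine ⟨g * g', l, g' • b, g • b', ‹p.IsPrime›.mul_notMem hg hg', hl, ?_, ?_⟩
  · rw [mul_smul_comm, hb, smul_smul, Algebra.algebraMap_eq_smul_one, mul_comm g']
  · rw [smul_mul_assoc, hb', smul_smul, Algebra.algebraMap_eq_smul_one]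

/-- An automorphism of an Azumaya algebra is inner locally on the fixed ring. -/
theorem exists_cover_inner (hlam : Function.Involutive lam) (hS : RInv.IsFixedRing S R lam)
    [IsAzumaya R A] (ψ : A ≃ₐ[R] A) :
    ∃ (S' : Type u) (_ : CommRing S') (_ : Algebra S S') (_ : Algebra.Etale S S')
      (_ : Module.FaithfullyFlat S S') (u : (S' ⊗[S] A)ˣ),
      ∀ x : S' ⊗[S] A,
        Algebra.TensorProduct.congr (AlgEquiv.refl : S' ≃ₐ[S'] S') (ψ.restrictScalars S) x =
          ↑u * x * ↑u⁻¹ := by
  obtain ⟨ι, _, _, B, _, _, hP, het, hff⟩ := exists_etale_cover (S := S)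
    (fun B _ _ => ∃ u : (B ⊗[S] A)ˣ, ∀ y : A, ((1 : B) ⊗ₜ[S] ψ y) * (↑u : B ⊗[S] A) = (↑u : B ⊗[S] A) * ((1 : B) ⊗ₜ[S] y)) fun p => by
      obtain ⟨g, l, b, b', hg, hl, hlb, hbl⟩ := exists_intertwiner_near hlam hS ψ p.asIdeal
      obtain ⟨γ, hγ⟩ := isUnit_iff_exists_inv'.mp
        (IsLocalization.Away.algebraMap_isUnit (S := Localization.Away g) g)
      have key : γ ⊗ₜ[S] algebraMap S A g = (1 : Localization.Away g ⊗[S] A) := by
        rw [Algebra.algebraMap_eq_smul_one, TensorProduct.tmul_smul, TensorProduct.smul_tmul', Algebra.smul_def,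
          mul_comm, hγ, Algebra.TensorProduct.one_def]
      have hu1 : ((1 : Localization.Away g) ⊗ₜ[S] l) * (γ ⊗ₜ b) = 1 := by
        rw [Algebra.TensorProduct.tmul_mul_tmul, one_mul, hlb, key]
      have hu2 : (γ ⊗ₜ b') * ((1 : Localization.Away g) ⊗ₜ[S] l) = 1 := by
        rw [Algebra.TensorProduct.tmul_mul_tmul, mul_one, hbl, key]
      refine ⟨Localization.Away g, inferInstance, inferInstance,
        Algebra.Etale.of_isLocalizationAway g, ⟨⟨_, _, hu1, (left_inv_eq_right_inv hu2 hu1) ▸ hu2⟩, fun y => ?_⟩, ?_⟩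
      · simp only [Algebra.TensorProduct.tmul_mul_tmul, hl]
      · rw [PrimeSpectrum.localization_away_comap_range (Localization.Away g) g]
        exact hg
  choose u hu using hP
  let U := glueUnit B u
  refine ⟨∀ i, B i, inferInstance, inferInstance, het, hff, U, fun x => ?_⟩
  rw [← Units.mul_inv_eq_iff_eq_mul, inv_inv]
  induction x using TensorProduct.induction_on with
  | zero => simp
  | add x y hx hy => rw [map_add, add_mul, hx, hy, mul_add]
  | tmul c a =>
    refine ext_proj B fun i => ?_
    simp only [map_mul, U, glueUnit, proj_glue]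
    simp only [Algebra.TensorProduct.congr_apply, proj, Algebra.TensorProduct.map_tmul]
    have h := congrArg (fun z => ((Pi.evalAlgHom S B i c) ⊗ₜ[S] (1 : A)) * z) (hu i a)
    simp only [← mul_assoc, Algebra.TensorProduct.tmul_mul_tmul, mul_one, one_mul] at h
    rw [show (Pi.evalAlgHom S B i c ⊗ₜ[S] (1 : A)) * ↑(u i) = ↑(u i) * (Pi.evalAlgHom S B i c ⊗ₜ[S] (1 : A)) from by
      exact Algebra.commutes (Pi.evalAlgHom S B i c) (↑(u i) : B i ⊗[S] A), mul_assoc,
      Algebra.TensorProduct.tmul_mul_tmul, mul_one, one_mul] at h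
    simpa using h

end Groth.Agent.AzInvLib
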