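import Groth.Agent.AzInvLib.Fibre
import Mathlib.RingTheory.Spectrum.Prime.FreeLocus

/-! Symmetric elements on the ramification locus. -/

namespace Groth.Agent.AzInvLib

open scoped TensorProduct

noncomputable section

universe u v w z

variable {R : Type v} [CommRing R] {lam : R → R} {A : Type w} [Ring A] [Algebra R A]

/-- The span of the images of the symmetric elements. -/
abbrev symSpan (T : Type z) [CommRing T] [Algebra R T] (t : AzInv.LamInv R A lam) : Submodule T (T ⊗[R] A) :=
  Submodule.span T (Set.range fun a : {a : A // t a = a} => (1 : T) ⊗ₜ[R] (a : A))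

section Lin

variable {T : Type z} [CommRing T] [Algebra R T] (hT : ∀ r, algebraMap R T (lam r) = algebraMap R T r)

/-- The linear involution induced where `lam` is trivial. -/
def sLin (t : AzInv.LamInv R A lam) : T ⊗[R] A →ₗ[T] T ⊗[R] A where
  toFun := bcLamInv (RingEquiv.refl T) (fun _ => rfl) (fun r => (hT r).symm) t
  map_add' := (bcLamInv (RingEquiv.refl T) (fun _ => rfl) (fun r => (hT r).symm) t).map_add
  map_smul' c x := (bcLamInv (RingEquiv.refl T) (fun _ => rfl) (fun r => (hT r).symm) t).map_smul c x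

theorem sLin_tmul (t : AzInv.LamInv R A lam) (x : T) (a : A) : sLin hT t (x ⊗ₜ a) = x ⊗ₜ t a := rfl

theorem sLin_sLin (t : AzInv.LamInv R A lam) (z : T ⊗[R] A) : sLin hT t (sLin hT t z) = z :=
  (bcLamInv (RingEquiv.refl T) (fun _ => rfl) (fun r => (hT r).symm) t).invol z

theorem add_mem_symSpan (t : AzInv.LamInv R A lam) (z : T ⊗[R] A) : z + sLin hT t z ∈ symSpan T t := by
  induction z using TensorProduct.induction_on with
  | zero => simp
  | add x y hx hy =>
    rw [map_add, add_add_add_comm]
    exact add_mem hx hy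
  | tmul x a =>
    rw [sLin_tmul, ← TensorProduct.tmul_add, show x ⊗ₜ[R] (a + t a) = x • ((1 : T) ⊗ₜ[R] (a + t a)) by
      rw [TensorProduct.smul_tmul', smul_eq_mul, mul_one]]
    exact Submodule.smul_mem _ x
      (Submodule.subset_span ⟨⟨a + t a, by rw [t.map_add, t.invol, add_comm]⟩, rfl⟩)

theorem symSpan_eq_ker (h2 : IsUnit (2 : T)) (t : AzInv.LamInv R A lam) :
    symSpan T t = LinearMap.ker (sLin hT t - LinearMap.id) := by
  refine le_antisymm (Submodule.span_le.mpr ?_) fun z hz => ?_
  · rintro _ ⟨⟨a, ha⟩, rfl⟩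
    simp [sLin_tmul, ha]
  · rw [LinearMap.mem_ker, LinearMap.sub_apply, LinearMap.id_apply, sub_eq_zero] at hz
    have h := add_mem_symSpan hT t z
    rw [hz, ← two_smul T z] at h
    obtain ⟨u, hu⟩ := h2
    rw [← hu] at h
    simpa [smul_smul] using Submodule.smul_mem _ (↑u⁻¹ : T) h

end Lin

section Rank

variable {Q : Type v} [CommRing Q] [Algebra R Q] (hQ : ∀ r, algebraMap R Q (lam r) = algebraMap R Q r)
  (h2 : IsUnit (2 : Q))

include hQ h2 in
/-- The symmetric part is a direct summand. -/
theorem exists_retraction (t : AzInv.LamInv R A lam) :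
    ∃ p : Q ⊗[R] A →ₗ[Q] symSpan Q t, p.comp (symSpan Q t).subtype = LinearMap.id := by
  obtain ⟨u, hu⟩ := h2
  refine ⟨LinearMap.codRestrict _ ((↑u⁻¹ : Q) • (LinearMap.id + sLin hQ t)) fun z =>
    Submodule.smul_mem _ _ (add_mem_symSpan hQ t z), LinearMap.ext fun ⟨z, hz⟩ => Subtype.ext ?_⟩
  rw [symSpan_eq_ker hQ ⟨u, hu⟩, LinearMap.mem_ker, LinearMap.sub_apply, LinearMap.id_apply, sub_eq_zero] at hz
  show (↑u⁻¹ : Q) • (z + sLin hQ t z) = z
  rw [hz, ← two_smul Q z, ← hu, smul_smul, Units.inv_mul, one_smul]

include hQ h2 in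
theorem projective_symSpan [Module.Projective R A] (t : AzInv.LamInv R A lam) :
    Module.Projective Q (symSpan Q t) :=
  let ⟨p, hp⟩ := exists_retraction hQ h2 t
  Module.Projective.of_split _ p hp

include hQ h2 in
theorem finite_symSpan [Module.Finite R A] (t : AzInv.LamInv R A lam) : Module.Finite Q (symSpan Q t) :=
  let ⟨p, hp⟩ := exists_retraction hQ h2 t
  Module.Finite.of_surjective p fun z => ⟨z.1, LinearMap.congr_fun hp z⟩

include hQ h2 in
/-- The dimension of the symmetric part at a point. -/
theorem finrank_symSpan [Module.Finite R A] [Module.Projective R A] (t : AzInv.LamInv R A lam) (K : Type z)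
    [Field K] [Algebra R K] [Algebra Q K] [IsScalarTower R Q K] :
    Module.finrank K (symSpan K t) =
      Module.rankAtStalk (symSpan Q t) ((⊥ : PrimeSpectrum K).comap (algebraMap Q K)) := by
  obtain ⟨p, hp⟩ := exists_retraction hQ h2 t
  haveI := projective_symSpan hQ h2 t
  haveI := finite_symSpan hQ h2 t
  rw [← Module.rankAtStalk_baseChange (M := symSpan Q t) (⊥ : PrimeSpectrum K),
    Module.rankAtStalk_eq_finrank_of_free]
  let φ : K ⊗[Q] symSpan Q t →ₗ[K] K ⊗[R] A :=
    (TensorProduct.AlgebraTensorModule.cancelBaseChange R Q K K A).toLinearMap ∘ₗ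
      LinearMap.baseChange K (symSpan Q t).subtype
  have hinj : Function.Injective φ := by
    refine ((TensorProduct.AlgebraTensorModule.cancelBaseChange R Q K K A).injective).comp (Function.LeftInverse.injective (g := p.baseChange K) fun z => ?_)
    rw [← LinearMap.comp_apply, ← LinearMap.baseChange_comp, hp, LinearMap.baseChange_id, LinearMap.id_apply]
  have hrange : LinearMap.range φ = symSpan K t := by
    refine le_antisymm ?_ (Submodule.span_le.mpr ?_)
    · rintro _ ⟨z, rfl⟩
      induction z using TensorProduct.induction_on with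
      | zero => simp
      | add x y hx hy => rw [map_add]; exact add_mem hx hy
      | tmul c x =>
        obtain ⟨x, hx⟩ := x
        show TensorProduct.AlgebraTensorModule.cancelBaseChange R Q K K A (c ⊗ₜ x) ∈ _
        induction hx using Submodule.span_induction generalizing c with
        | zero => simp
        | add x y _ _ hx hy =>
          rw [TensorProduct.tmul_add, map_add]
          exact add_mem (hx c) (hy c)
        | smul r x _ hx =>
          rw [← TensorProduct.smul_tmul]
          exact hx _
        | mem x hx =>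
          obtain ⟨a, rfl⟩ := hx
          rw [TensorProduct.AlgebraTensorModule.cancelBaseChange_tmul, one_smul,
            show c ⊗ₜ[R] (a : A) = c • ((1 : K) ⊗ₜ[R] (a : A)) by rw [TensorProduct.smul_tmul', smul_eq_mul, mul_one]]
          exact Submodule.smul_mem _ c (Submodule.subset_span ⟨a, rfl⟩)
    · rintro _ ⟨a, rfl⟩
      exact ⟨1 ⊗ₜ ⟨_, Submodule.subset_span ⟨a, rfl⟩⟩, by simp [φ]⟩
  rw [← hrange]
  simpa using (LinearEquiv.ofInjective φ hinj).finrank_eq.symm

end Rank

end

end Groth.Agent.AzInvLib
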