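import Groth.Agent.AzInvLib.Split

/-! Matrix algebras and tensor products. -/

namespace Groth.Agent.AzInvLib

open scoped TensorProduct

noncomputable section

universe u v w

variable (S : Type u) [CommRing S] (B : Type w) [CommRing B] [Algebra S B] (R : Type v) [CommRing R] [Algebra S R]
  (n : ℕ)

/-- Base change of a matrix algebra. -/
def matTensorHom : B ⊗[S] Matrix (Fin n) (Fin n) R →ₐ[B] Matrix (Fin n) (Fin n) (B ⊗[S] R) :=
  Algebra.TensorProduct.lift (Algebra.ofId B _)
    (Algebra.TensorProduct.includeRight : R →ₐ[S] B ⊗[S] R).mapMatrix fun b _ => Algebra.commutes b _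

theorem matTensorHom_tmul (b : B) (M : Matrix (Fin n) (Fin n) R) (i j : Fin n) :
    matTensorHom S B R n (b ⊗ₜ M) i j = b ⊗ₜ M i j := by
  simp [matTensorHom, Algebra.ofId_apply, ← Algebra.smul_def, TensorProduct.smul_tmul']

/-- The inverse map. -/
def matTensorInv (M : Matrix (Fin n) (Fin n) (B ⊗[S] R)) : B ⊗[S] Matrix (Fin n) (Fin n) R :=
  ∑ i, ∑ j, LinearMap.lTensor B (Matrix.singleLinearMap S i j) (M i j)

theorem matTensor_bijective : Function.Bijective (matTensorHom S B R n) := by
  refine Function.bijective_iff_has_inverse.mpr ⟨matTensorInv S B R n, fun z => ?_, fun M => ?_⟩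
  · induction z using TensorProduct.induction_on with
    | zero => simp [matTensorInv]
    | add x y hx hy =>
      conv_rhs => rw [← hx, ← hy]
      simp [matTensorInv, Finset.sum_add_distrib]
    | tmul b M =>
      simp only [matTensorInv, matTensorHom_tmul, LinearMap.lTensor_tmul, ← TensorProduct.tmul_sum]
      congr 1
      exact (Matrix.matrix_eq_sum_single M).symm
  · ext i j
    have key : ∀ (a c : Fin n) (z : B ⊗[S] R), matTensorHom S B R n
        (LinearMap.lTensor B (Matrix.singleLinearMap S a c) z) i j = if a = i ∧ c = j then z else 0 := fun a c z => by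
      induction z using TensorProduct.induction_on with
      | zero => simp
      | add x y hx hy => rw [map_add, map_add, Matrix.add_apply, hx, hy]; split_ifs <;> simp
      | tmul b r =>
        rw [LinearMap.lTensor_tmul, matTensorHom_tmul]
        simp only [Matrix.singleLinearMap_apply, Matrix.single_apply]
        split_ifs <;> simp
    simp only [matTensorInv, map_sum, Matrix.sum_apply, key, ite_and, Finset.sum_ite_eq', Finset.mem_univ, if_true,
      Finset.sum_ite_irrel, Finset.sum_const_zero]

/-- Base change of a matrix algebra, as an equivalence. -/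
def matTensor : B ⊗[S] Matrix (Fin n) (Fin n) R ≃ₐ[B] Matrix (Fin n) (Fin n) (B ⊗[S] R) :=
  AlgEquiv.ofBijective (matTensorHom S B R n) (matTensor_bijective S B R n)

theorem matTensor_tmul (b : B) (M : Matrix (Fin n) (Fin n) R) (i j : Fin n) :
    matTensor S B R n (b ⊗ₜ M) i j = b ⊗ₜ M i j := matTensorHom_tmul S B R n b M i j

/-- Matrices over an algebra as a base change. -/
def matBase (T : Type w) [CommRing T] [Algebra R T] :
    T ⊗[R] Matrix (Fin n) (Fin n) R ≃ₐ[T] Matrix (Fin n) (Fin n) T :=
  (matTensor R T R n).trans (Algebra.TensorProduct.rid R T T).mapMatrix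

theorem matBase_tmul (T : Type w) [CommRing T] [Algebra R T] (x : T) (M : Matrix (Fin n) (Fin n) R) :
    matBase R n T (x ⊗ₜ M) = x • M.map (algebraMap R T) := by
  ext i j
  simp [matBase, matTensor_tmul, Algebra.smul_def, mul_comm]

end

end Groth.Agent.AzInvLib
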