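import Groth.Agent.AzInvLib.Ramified
import Groth.Agent.S17362
import Mathlib.RingTheory.Spectrum.Prime.Topology

/-! Involutions are ordinary in the totally ramified and in the unramified case. -/

namespace Groth.Agent.AzInvLib

open scoped TensorProduct
open Hensel

noncomputable section

universe u v w

variable {S : Type u} [CommRing S] {R : Type v} [CommRing R] [Algebra S R] {lam : R ≃ₐ[S] R}
  (hlam : ∀ r, lam (lam r) = r) (hfix : RInv.IsFixedRing S R lam.toRingEquiv)
  {A : Type w} [Ring A] [Algebra S A] [Algebra R A] [IsScalarTower S R A] {n : ℕ}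

theorem eq_of_sub_mem_prime {R : Type v} [CommRing R] {a b : R} (ha : a * a = a) (hb : b * b = b)
    (h : ∀ q : PrimeSpectrum R, a - b ∈ q.asIdeal) : a = b := by
  have hnil : IsNilpotent (a - b) := nilpotent_iff_mem_prime.mpr fun J hJ => h ⟨J, hJ⟩
  have hu : IsUnit (1 - (a - b) * (a - b)) := IsNilpotent.isUnit_one_sub
    (nilpotent_iff_mem_prime.mpr fun J hJ => J.mul_mem_left _ (h ⟨J, hJ⟩))
  refine sub_eq_zero.mp (hu.mul_left_eq_zero.mp ?_)
  linear_combination (-(a + 1) + 3 * b) * ha + ((b + 1) - 3 * a) * hb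

/-- The standard alternating matrix of even size. -/
theorem exists_alternating (lam : R ≃ₐ[S] R) (hlam : ∀ r, lam (lam r) = r) {n : ℕ} (h : Even n) :
    ∃ J : Matrix (Fin n) (Fin n) R, J * -J = 1 ∧ AzInv.LamInv.transpose lam (Fin n) hlam J = -J := by
  obtain ⟨j, rfl⟩ := h
  let B : Matrix (Fin j ⊕ Fin j) (Fin j ⊕ Fin j) R := Matrix.fromBlocks 0 (-1) 1 0
  refine ⟨B.submatrix finSumFinEquiv.symm finSumFinEquiv.symm, ?_, ?_⟩
  · show B.submatrix _ _ * (-B).submatrix finSumFinEquiv.symm finSumFinEquiv.symm = 1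
    rw [Matrix.submatrix_mul_equiv]
    simp [B, Matrix.fromBlocks_neg, Matrix.fromBlocks_multiply, Matrix.fromBlocks_one]
  · ext a b
    rw [AzInv.LamInv.transpose_apply, Matrix.neg_apply, Matrix.submatrix_apply, Matrix.submatrix_apply]
    rcases finSumFinEquiv.symm a with i | i <;> rcases finSumFinEquiv.symm b with k | k <;>
      simp [B, Matrix.one_apply, eq_comm, apply_ite lam]

include hlam hfix in
theorem ordinary
    (hsq : ∀ (L : Type u) [Field L] [Algebra S L], IsAlgClosed L → PtSquares (S := S) L)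
    (hram : (IsUnit (2 : S) ∧ ∀ p : PrimeSpectrum S,
        ¬ RInv.IsQuadEtale (Localization.AtPrime p.asIdeal) (Localization.AtPrime p.asIdeal ⊗[S] R)) ∨
      RInv.IsQuadEtale S R)
    (hn : 0 < n) (hA : AzInv.IsAzumayaDeg R A n) (t : AzInv.LamInv R A lam) :
    ∃ (w : (Matrix (Fin n) (Fin n) R)ˣ) (e : R)
      (hw : AzInv.LamInv.transpose lam (Fin n) hlam (↑w : Matrix (Fin n) (Fin n) R) = e • (↑w : Matrix (Fin n) (Fin n) R))
      (he : lam e * e = 1),
      AzInv.LocIsoEt S lam t ((AzInv.LamInv.transpose lam (Fin n) hlam).conj w e hw he) := by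
  rcases hram with ⟨h2, hbr⟩ | hq
  · have hall : ∀ (q : PrimeSpectrum R) (r : R), lam r - r ∈ q.asIdeal := fun q r =>
      RInvLib.trivial_of_branch (lam := lam.toRingEquiv) hlam hfix
        (hbr (q.comap (algebraMap S R))) (q := q.asIdeal) rfl r
    have hlc : IsLocallyConstant (fun q : PrimeSpectrum R => OrthAt t n q) :=
      (IsLocallyConstant.iff_exists_open _).mpr fun q => by
        obtain ⟨f, hf, hf'⟩ := S17362.result S R lam hlam hfix h2 A n hn hA t q (hall q)
        exact ⟨PrimeSpectrum.basicOpen f, (PrimeSpectrum.basicOpen f).isOpen, hf,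
          fun q' hq' => propext (hf' q' (hall q') hq')⟩
    obtain ⟨s, hs, hV⟩ := PrimeSpectrum.isClopen_iff.mp (hlc.isClopen_fiber False)
    have hmem : ∀ q : PrimeSpectrum R, s ∈ q.asIdeal ↔ OrthAt t n q := fun q => by
      have h := Set.ext_iff.mp hV q
      simp only [Set.mem_setOf_eq, eq_iff_iff, iff_false, PrimeSpectrum.basicOpen_eq_zeroLocus_compl,
        Set.mem_compl_iff, PrimeSpectrum.mem_zeroLocus, Set.singleton_subset_iff, SetLike.mem_coe] at h
      exact not_iff_not.mp h.symm
    have hls : lam s = s := eq_of_sub_mem_prime (by rw [← map_mul, hs]) hs fun q => hall q s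
    have hodd : ¬ Even n → s = 0 := fun hne => eq_of_sub_mem_prime hs (zero_mul 0) fun q => by
      rw [sub_zero, hmem]
      obtain ⟨L, _, _, hL, hker⟩ := exists_point (q.asIdeal.comap (algebraMap S R))
      letI : Algebra R (Henz S L ⊗[S] R) := Algebra.TensorProduct.rightAlgebra
      obtain ⟨ε, hg, hε⟩ := exists_ptSign hlam hfix hn (exists_split_point (L := L) hlam hfix hA hn)
        (ptCase hlam hfix L (Or.inl h2)) t
      rcases good_cases hg with rfl | ⟨rfl, hid, h2'⟩
      · exact (orth_iff_sign hlam hfix h2 hA hn (hall q) L hker (Or.inl rfl) hε).mpr rfl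
      · exact absurd (even_of_sign_neg hlam hfix (hsq L hL) hid h2' hA hn hε) hne
    obtain ⟨J, Ji, hJi, hJ⟩ : ∃ J Ji : Matrix (Fin n) (Fin n) R, J * Ji = 1 ∧
        s • AzInv.LamInv.transpose lam (Fin n) hlam J = -(s • J) := by
      by_cases hne : Even n
      · obtain ⟨J, h1, h3⟩ := exists_alternating lam hlam hne
        exact ⟨J, -J, h1, by rw [h3, smul_neg]⟩
      · exact ⟨1, 1, one_mul 1, by simp [hodd hne]⟩
    have hprod : ∀ X Y : Matrix (Fin n) (Fin n) R, X * Y = 1 →
        ((1 - s) • 1 + s • X) * ((1 - s) • 1 + s • Y) = 1 := fun X Y h => by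
      have hss : s * (1 - s) = 0 := by linear_combination -hs.eq
      have hss' : (1 - s) * s = 0 := by linear_combination -hs.eq
      have hs1 : (1 - s) * (1 - s) = 1 - s := by linear_combination hs.eq
      simp only [Matrix.add_mul, Matrix.mul_add, Matrix.smul_mul, Matrix.mul_smul, smul_add, smul_smul, Matrix.one_mul,
        Matrix.mul_one, h, hss, hss', hs1, hs.eq, zero_smul, add_zero, zero_add]
      rw [← add_smul, sub_add_cancel, one_smul]
    let w : (Matrix (Fin n) (Fin n) R)ˣ :=
      ⟨(1 - s) • 1 + s • J, (1 - s) • 1 + s • Ji, hprod J Ji hJi, hprod Ji J (mul_eq_one_comm.mp hJi)⟩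
    have hw : AzInv.LamInv.transpose lam (Fin n) hlam (↑w : Matrix (Fin n) (Fin n) R) =
        (1 - 2 * s) • (↑w : Matrix (Fin n) (Fin n) R) := by
      show AzInv.LamInv.transpose lam (Fin n) hlam ((1 - s) • 1 + s • J) = (1 - 2 * s) • ((1 - s) • 1 + s • J)
      rw [AzInv.LamInv.map_add, AzInv.LamInv.map_smul, AzInv.LamInv.map_smul, AzInv.LamInv.map_one, map_sub, map_one,
        hls, hJ, smul_add, smul_smul, smul_smul, show (1 - 2 * s) * (1 - s) = 1 - s by linear_combination 2 * hs.eq,
        show (1 - 2 * s) * s = -s by linear_combination -2 * hs.eq, neg_smul]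
    have he : lam (1 - 2 * s) * (1 - 2 * s) = 1 := by
      rw [map_sub, map_one, map_mul, map_ofNat, hls]
      linear_combination 4 * hs.eq
    refine ⟨w, 1 - 2 * s, hw, he, locIso_of_signs hlam hfix hsq hn hA (isAzumayaDeg_matrix R hn) fun L _ _ _ => ?_⟩
    letI : Algebra R (Henz S L ⊗[S] R) := Algebra.TensorProduct.rightAlgebra
    haveI := RingHom.ker_isPrime (algebraMap S L)
    obtain ⟨q, hqp, hker⟩ := RInvLib.exists_over (lam := lam.toRingEquiv) hlam hfix (RingHom.ker (algebraMap S L))
    let Q : PrimeSpectrum R := ⟨q, hqp⟩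
    obtain ⟨χ, hχk, hχ⟩ := exists_char hlam hfix h2 L Q (hall Q) hker.symm
    have hid := ptRamified hlam hfix h2 χ hχ
    haveI := RInvLib.isLocalRing_of_forall (RInvLib.bcLam_involutive (Henz S L) lam hlam)
      (isFixedRing_point (L := L) hlam hfix) hid
    obtain ⟨ε, hg, hε⟩ := exists_ptSign hlam hfix hn (exists_split_point (L := L) hlam hfix hA hn)
      (ptCase hlam hfix L (Or.inl h2)) t
    refine ⟨ε, hg, hε, ?_⟩
    have hiff := (hmem Q).trans (orth_iff_sign hlam hfix h2 hA hn (hall Q) L hker.symm (eq_one_or_neg hg) hε)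
    have hval := ptVal_algebraMap χ s
    obtain ⟨σ, hσ⟩ : ∃ σ, σ = algebraMap R (Henz S L ⊗[S] R) s := ⟨_, rfl⟩
    have hmain : algebraMap R (Henz S L ⊗[S] R) (1 - 2 * s) = ε := by
      rw [map_sub, map_one, map_mul, map_ofNat, ← hσ]
      rw [← hσ] at hval
      have hσσ : σ * (1 - σ) = 0 := by
        rw [hσ, ← map_one (algebraMap R (Henz S L ⊗[S] R)), ← map_sub, ← map_mul,
          show s * (1 - s) = 0 by linear_combination -hs.eq, map_zero]
      rcases IsLocalRing.isUnit_or_isUnit_one_sub_self σ with hu | hu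
      · have h1 : σ = 1 := (sub_eq_zero.mp (hu.mul_right_eq_zero.mp hσσ)).symm
        have hsQ : s ∉ Q.asIdeal := fun hmem' => by
          rw [← hχk, RingHom.mem_ker] at hmem'
          rw [h1, map_one] at hval
          exact one_ne_zero (hval.trans hmem')
        rcases eq_one_or_neg hg with h | h
        · exact absurd (hiff.mpr h) hsQ
        · rw [h, h1]; ring
      · have h0 : σ = 0 := hu.mul_left_eq_zero.mp hσσ
        have hsQ : s ∈ Q.asIdeal := by
          rw [← hχk, RingHom.mem_ker]
          rw [h0, map_zero] at hval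
          exact hval.symm
        rw [hiff.mp hsQ, h0]; ring
    exact hmain ▸ ptSign_transpose_conj hlam L w (1 - 2 * s) hw he
  · refine ⟨1, 1, by rw [Units.val_one, AzInv.LamInv.map_one, one_smul], by rw [map_one, one_mul],
      locIso_of_signs hlam hfix hsq hn hA (isAzumayaDeg_matrix R hn) fun L _ _ _ => ?_⟩
    letI : Algebra R (Henz S L ⊗[S] R) := Algebra.TensorProduct.rightAlgebra
    obtain ⟨ε, hg, hε⟩ := exists_ptSign hlam hfix hn (exists_split_point (L := L) hlam hfix hA hn)
      (ptCase hlam hfix L (Or.inr (Or.inl hq))) t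
    rcases good_cases hg with rfl | ⟨rfl, hid, -⟩
    · have h := ptSign_transpose_conj hlam L (1 : (Matrix (Fin n) (Fin n) R)ˣ) 1
        (by rw [Units.val_one, AzInv.LamInv.map_one, one_smul]) (by rw [map_one, one_mul])
      rw [map_one] at h
      exact ⟨1, hg, hε, h⟩
    · exact (not_ramified_of_quad hlam hfix hq hid).elim

end

end Groth.Agent.AzInvLib
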