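import Groth.Agent.AzInvLib.SignPrime

/-! Types of involutions and their signs on the ramification locus. -/

namespace Groth.Agent.AzInvLib

open scoped TensorProduct
open Hensel

noncomputable section

universe u v w w'

variable {S : Type u} [CommRing S] {R : Type v} [CommRing R] [Algebra S R] {lam : R ≃ₐ[S] R}
  (hlam : ∀ r, lam (lam r) = r) (hfix : RInv.IsFixedRing S R lam.toRingEquiv) (h2 : IsUnit (2 : S))
  {A : Type w} [Ring A] [Algebra R A] {n : ℕ}

/-- Orthogonality at a prime. -/
abbrev OrthAt (t : AzInv.LamInv R A lam) (n : ℕ) (q : PrimeSpectrum R) : Prop :=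
  Module.finrank q.asIdeal.ResidueField (symSpan q.asIdeal.ResidueField t) = Nat.choose (n + 1) 2

include hlam hfix h2 in
/-- At a ramified prime the sign is read off from the dimension. -/
theorem orth_iff_sign (hA : AzInv.IsAzumayaDeg R A n) (hn : 0 < n) {q : PrimeSpectrum R}
    (hq : ∀ r, lam r - r ∈ q.asIdeal) (L : Type u) [Field L] [Algebra S L] [IsAlgClosed L]
    (hker : RingHom.ker (algebraMap S L) = q.asIdeal.comap (algebraMap S R)) {ε : Henz S L ⊗[S] R}
    (hε : ε = 1 ∨ ε = -1) {t : AzInv.LamInv R A lam} (h : PtSign hlam L ε t) : OrthAt t n q ↔ ε = 1 := by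
  obtain ⟨χ, hχk, hχ⟩ := exists_char hlam hfix h2 L q hq hker
  have h2L : (2 : L) ≠ 0 := by
    have h := h2.map (algebraMap S L)
    rw [map_ofNat] at h
    exact h.ne_zero
  rcases hε with rfl | rfl
  · simp only [iff_true, OrthAt]
    rw [finrank_symSpan_of_sign hlam hfix h2 hA hn χ hχk hχ (map_one _) (one_mul 1) h, CSALib.finrank_sym]
  · have hd := finrank_symSpan_of_sign hlam hfix h2 hA hn χ hχk hχ (c := -1)
      (by rw [map_neg, map_one]) (by norm_num) h
    refine iff_of_false ?_ fun he => h2L ?_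
    · rw [OrthAt, hd, CSALib.finrank_skew L h2L, show Nat.choose (n + 1) 2 = Nat.choose n 1 + Nat.choose n 2 from
        Nat.choose_succ_succ n 1, Nat.choose_one_right]
      omega
    · have := congrArg (ptVal L χ) he
      rw [map_neg, map_one] at this
      linear_combination -this

theorem eq_one_or_neg {L : Type u} [Field L] [Algebra S L] {N : ℕ} {ε : Henz S L ⊗[S] R}
    (hg : Good (ptLam L lam) (Fin N) ε) : ε = 1 ∨ ε = -1 := by
  rcases good_cases hg with h | ⟨h, -⟩
  · exact Or.inl h
  · exact Or.inr h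

include hlam hfix h2 in
/-- The sign at a point is one when the involution is orthogonal on the ramification locus. -/
theorem ptSign_one_of_orth (hA : AzInv.IsAzumayaDeg R A n) (hn : 0 < n) {t : AzInv.LamInv R A lam}
    (ho : ∀ q : PrimeSpectrum R, (∀ r, lam r - r ∈ q.asIdeal) → OrthAt t n q)
    (L : Type u) [Field L] [Algebra S L] [IsAlgClosed L] : PtSign hlam L 1 t := by
  letI : Algebra R (Henz S L ⊗[S] R) := Algebra.TensorProduct.rightAlgebra
  obtain ⟨ε, hg, hε⟩ := exists_ptSign hlam hfix hn (exists_split_point (L := L) hlam hfix hA hn)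
    (ptCase hlam hfix L (Or.inl h2)) t
  rcases good_cases hg with rfl | ⟨rfl, hid, -⟩
  · exact hε
  · obtain ⟨q, hq, hker⟩ := exists_prime_of_ramified hlam hfix (L := L) hid
    have h := (orth_iff_sign hlam hfix h2 hA hn hq L hker (Or.inr rfl) hε).mp (ho q hq)
    rwa [h] at hε

variable [Algebra S A] [IsScalarTower S R A]
  {A' : Type w'} [Ring A'] [Algebra S A'] [Algebra R A'] [IsScalarTower S R A'] {n' : ℕ}

include hlam hfix in
/-- Involutions with equal signs are locally isomorphic. -/
theorem locIso_of_signs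
    (hsq : ∀ (L : Type u) [Field L] [Algebra S L], IsAlgClosed L → PtSquares (S := S) L) (hn : 0 < n)
    (hA : AzInv.IsAzumayaDeg R A n) (hA' : AzInv.IsAzumayaDeg R A' n)
    {t : AzInv.LamInv R A lam} {t' : AzInv.LamInv R A' lam}
    (h : ∀ (L : Type u) [Field L] [Algebra S L] [IsAlgClosed L],
      ∃ ε, Good (ptLam L lam) (Fin n) ε ∧ PtSign hlam L ε t ∧ PtSign hlam L ε t') :
    AzInv.LocIsoEt S lam t t' := by
  haveI := hA.1
  haveI := hA'.1
  refine locIso_of_points t t' fun L _ _ hL => ?_
  obtain ⟨ε, hg, hε, hε'⟩ := h L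
  exact exists_iso_point hlam hfix (hsq L hL) hg (exists_split_point (L := L) hlam hfix hA hn)
    (exists_split_point (L := L) hlam hfix hA' hn) hε hε'

include hlam hfix h2 in
/-- With two invertible the type is the sign on the ramification locus. -/
theorem sameType_iff (hn : 0 < n) (hn' : 0 < n') (hA : AzInv.IsAzumayaDeg R A n) (hA' : AzInv.IsAzumayaDeg R A' n')
    (t : AzInv.LamInv R A lam) (t' : AzInv.LamInv R A' lam) :
    AzInv.SameType S lam t t' ↔
      ∀ q : PrimeSpectrum R, (∀ r, lam r - r ∈ q.asIdeal) → (OrthAt t n q ↔ OrthAt t' n' q) := by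
  haveI := hA.1
  haveI := hA'.1
  constructor
  · rintro ⟨m, m', hm, hm', hiso⟩ q hq
    obtain ⟨L, _, _, hL, hker⟩ := exists_point (q.asIdeal.comap (algebraMap S R))
    letI : Algebra R (Henz S L ⊗[S] R) := Algebra.TensorProduct.rightAlgebra
    have hs := exists_split_point (L := L) hlam hfix hA hn
    have hs' := exists_split_point (L := L) hlam hfix hA' hn'
    obtain ⟨ε, hg, hε⟩ := exists_ptSign hlam hfix hn hs (ptCase hlam hfix L (Or.inl h2)) t
    obtain ⟨ε', hg', hε'⟩ := exists_ptSign hlam hfix hn' hs' (ptCase hlam hfix L (Or.inl h2)) t'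
    have e1 : PtSign hlam L ε (t'.matrix (Fin m')) := ptSign_of_locIso hlam hiso (ptSign_matrix hlam L hε m)
    have e2 : PtSign hlam L ε' (t'.matrix (Fin m')) := ptSign_matrix hlam L hε' m'
    rw [orth_iff_sign hlam hfix h2 hA hn hq L hker (eq_one_or_neg hg) hε,
      orth_iff_sign hlam hfix h2 hA' hn' hq L hker (eq_one_or_neg hg') hε']
    rcases good_cases hg with rfl | ⟨rfl, hid, h2'⟩ <;> rcases good_cases hg' with rfl | ⟨rfl, hid', h2''⟩
    · exact Iff.rfl
    · exact (ptSign_unique hlam hfix hid' h2'' (Nat.mul_pos hm' hn') (split_matrix L hs' m') e1 e2).elim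
    · exact (ptSign_unique hlam hfix hid h2' (Nat.mul_pos hm' hn') (split_matrix L hs' m') e2 e1).elim
    · exact Iff.rfl
  · intro h
    refine sameType_of_signs hlam hfix (fun L _ _ _ => ptSquares_of_two L h2) hn hn' hA
      (fun L _ _ _ => exists_split_point (L := L) hlam hfix hA' hn') fun L _ _ _ => ?_
    letI : Algebra R (Henz S L ⊗[S] R) := Algebra.TensorProduct.rightAlgebra
    obtain ⟨ε, hg, hε⟩ := exists_ptSign hlam hfix hn (exists_split_point (L := L) hlam hfix hA hn)
      (ptCase hlam hfix L (Or.inl h2)) t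
    obtain ⟨ε', hg', hε'⟩ := exists_ptSign hlam hfix hn' (exists_split_point (L := L) hlam hfix hA' hn')
      (ptCase hlam hfix L (Or.inl h2)) t'
    refine ⟨ε, good_transfer (ptCase hlam hfix L (Or.inl h2)) hg, hε, ?_⟩
    by_cases hid : ∀ x, ptLam L lam x - x ∈ Ring.jacobson (Henz S L ⊗[S] R)
    · obtain ⟨q, hq, hker⟩ := exists_prime_of_ramified hlam hfix (L := L) hid
      have hiff := h q hq
      rw [orth_iff_sign hlam hfix h2 hA hn hq L hker (eq_one_or_neg hg) hε,
        orth_iff_sign hlam hfix h2 hA' hn' hq L hker (eq_one_or_neg hg') hε'] at hiff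
      have heq : ε = ε' := by
        rcases eq_one_or_neg hg with rfl | rfl <;> rcases eq_one_or_neg hg' with rfl | rfl
        · rfl
        · exact (hiff.mp rfl).symm
        · exact hiff.mpr rfl
        · rfl
      rwa [heq]
    · rcases good_cases hg with rfl | ⟨-, hid', -⟩
      · rcases good_cases hg' with rfl | ⟨-, hid', -⟩
        · exact hε'
        · exact absurd hid' hid
      · exact absurd hid' hid

/-- A nontrivial matrix algebra is Azumaya of its size. -/
theorem isAzumayaDeg_matrix (R : Type v) [CommRing R] {m : ℕ} (hm : 0 < m) :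
    AzInv.IsAzumayaDeg R (Matrix (Fin m) (Fin m) R) m := by
  haveI : Nonempty (Fin m) := ⟨⟨0, hm⟩⟩
  refine ⟨IsAzumaya.matrix R (Fin m), fun p => ?_⟩
  haveI : Nontrivial R := p.nontrivial
  rw [Module.rankAtStalk_eq_finrank_of_free]
  simp [Module.finrank_matrix, sq]

theorem isAzumayaDeg_self (R : Type v) [CommRing R] : AzInv.IsAzumayaDeg R R 1 := by
  refine ⟨inferInstance, fun p => ?_⟩
  haveI : Nontrivial R := p.nontrivial
  rw [Module.rankAtStalk_eq_finrank_of_free]
  simp

end

end Groth.Agent.AzInvLib
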