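import Groth.Agent.AzInvLib.Standard
import Groth.Agent.AzInvLib.Locus
import Groth.Agent.CSALib.InvolutionDims

/-! Signs at ramified primes and dimensions of symmetric elements. -/

namespace Groth.Agent.AzInvLib

open scoped TensorProduct
open Hensel Matrix

attribute [local instance] Algebra.TensorProduct.rightAlgebra

noncomputable section

universe u v w

variable {S : Type u} [CommRing S] {R : Type v} [CommRing R] [Algebra S R] {lam : R ≃ₐ[S] R}
  (hlam : ∀ r, lam (lam r) = r) (hfix : RInv.IsFixedRing S R lam.toRingEquiv) (h2 : IsUnit (2 : S))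
  {A : Type w} [Ring A] [Algebra R A] {n : ℕ}
  (L : Type u) [Field L] [Algebra S L]

/-- Cancellation of base change for algebras. -/
def cancelAlg (R₀ : Type*) [CommRing R₀] (T₀ : Type*) [CommRing T₀] [Algebra R₀ T₀] (L₀ : Type*) [CommRing L₀]
    [Algebra R₀ L₀] [Algebra T₀ L₀] [IsScalarTower R₀ T₀ L₀] (B : Type*) [Ring B] [Algebra R₀ B] :
    L₀ ⊗[T₀] (T₀ ⊗[R₀] B) ≃ₐ[L₀] L₀ ⊗[R₀] B :=
  AlgEquiv.ofLinearEquiv (TensorProduct.AlgebraTensorModule.cancelBaseChange R₀ T₀ L₀ L₀ B)
    (by simp [Algebra.TensorProduct.one_def]) fun x y => by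
      induction x using TensorProduct.induction_on with
      | zero => simp
      | add x x' hx hx' => simp only [add_mul, map_add, hx, hx']
      | tmul a u =>
        induction y using TensorProduct.induction_on with
        | zero => simp
        | add y y' hy hy' => simp only [mul_add, map_add, hy, hy']
        | tmul b v =>
          induction u using TensorProduct.induction_on with
          | zero => simp
          | add u u' hu hu' =>
            simp only [Algebra.TensorProduct.tmul_mul_tmul] at hu hu'
            simp only [TensorProduct.tmul_add, Algebra.TensorProduct.tmul_mul_tmul, add_mul, map_add, hu, hu']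
          | tmul c p =>
            induction v using TensorProduct.induction_on with
            | zero => simp
            | add v v' hv hv' =>
              simp only [Algebra.TensorProduct.tmul_mul_tmul] at hv hv'
              simp only [TensorProduct.tmul_add, Algebra.TensorProduct.tmul_mul_tmul, mul_add, map_add, hv, hv']
            | tmul d r => simp [Algebra.TensorProduct.tmul_mul_tmul, Algebra.smul_def, mul_mul_mul_comm]

theorem cancelAlg_tmul {R₀ : Type*} [CommRing R₀] {T₀ : Type*} [CommRing T₀] [Algebra R₀ T₀] {L₀ : Type*} [CommRing L₀]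
    [Algebra R₀ L₀] [Algebra T₀ L₀] [IsScalarTower R₀ T₀ L₀] {B : Type*} [Ring B] [Algebra R₀ B]
    (a : L₀) (c : T₀) (b : B) : cancelAlg R₀ T₀ L₀ B (a ⊗ₜ (c ⊗ₜ b)) = (c • a) ⊗ₜ b :=
  TensorProduct.AlgebraTensorModule.cancelBaseChange_tmul R₀ T₀ L₀ a b c

theorem cancelAlg_symm_tmul {R₀ : Type*} [CommRing R₀] {T₀ : Type*} [CommRing T₀] [Algebra R₀ T₀] {L₀ : Type*}
    [CommRing L₀] [Algebra R₀ L₀] [Algebra T₀ L₀] [IsScalarTower R₀ T₀ L₀] {B : Type*} [Ring B] [Algebra R₀ B]
    (a : L₀) (b : B) : (cancelAlg R₀ T₀ L₀ B).symm (a ⊗ₜ b) = a ⊗ₜ (1 ⊗ₜ b) :=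
  TensorProduct.AlgebraTensorModule.cancelBaseChange_symm_tmul R₀ T₀ L₀ a b

include hlam hfix h2 in
/-- The value of a ramified prime in a field over its restriction. -/
theorem exists_char (q : PrimeSpectrum R) (hq : ∀ r, lam r - r ∈ q.asIdeal)
    (hker : RingHom.ker (algebraMap S L) = q.asIdeal.comap (algebraMap S R)) :
    ∃ χ : R →ₐ[S] L, RingHom.ker χ = q.asIdeal ∧ ∀ r, χ (lam r) = χ r := by
  obtain ⟨u, hu⟩ := h2
  have hhalf : algebraMap S R (↑u⁻¹ : S) * 2 = 1 := by
    rw [← map_ofNat (algebraMap S R) 2, ← map_mul, ← hu, Units.inv_mul, map_one]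
  have hex : ∀ r, ∃ s : S, algebraMap S R s - r ∈ q.asIdeal := fun r => by
    obtain ⟨t, ht⟩ := (hfix.2 (r + lam r)).mp (by
      show lam (r + lam r) = r + lam r
      rw [map_add, hlam, add_comm])
    refine ⟨↑u⁻¹ * t, ?_⟩
    rw [map_mul, ht]
    convert q.asIdeal.mul_mem_left (algebraMap S R (↑u⁻¹ : S)) (hq r) using 1
    linear_combination r * hhalf
  have hwd : ∀ {a b : S} {r : R}, algebraMap S R a - r ∈ q.asIdeal → algebraMap S R b - r ∈ q.asIdeal →
      algebraMap S L a = algebraMap S L b := fun {a b r} ha hb => by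
    rw [← sub_eq_zero, ← map_sub, ← RingHom.mem_ker, hker, Ideal.mem_comap, map_sub]
    simpa using sub_mem ha hb
  choose s hs using hex
  refine ⟨{ toFun := fun r => algebraMap S L (s r)
            map_one' := (hwd (hs 1) (b := 1) (by simp)).trans (map_one _)
            map_mul' := fun a b => (hwd (hs (a * b)) (b := s a * s b) (by
              rw [map_mul, show algebraMap S R (s a) * algebraMap S R (s b) - a * b =
                (algebraMap S R (s a) - a) * algebraMap S R (s b) + a * (algebraMap S R (s b) - b) by ring]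
              exact add_mem (Ideal.mul_mem_right _ _ (hs a)) (Ideal.mul_mem_left _ _ (hs b)))).trans (map_mul _ _ _)
            map_zero' := (hwd (hs 0) (b := 0) (by simp)).trans (map_zero _)
            map_add' := fun a b => (hwd (hs (a + b)) (b := s a + s b) (by
              rw [map_add, add_sub_add_comm]
              exact add_mem (hs a) (hs b))).trans (map_add _ _ _)
            commutes' := fun a => hwd (hs _) (b := a) (by simp) }, ?_, fun r => hwd (hs _) (b := s r) ?_⟩
  · ext r
    show algebraMap S L (s r) = 0 ↔ r ∈ q.asIdeal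
    rw [← RingHom.mem_ker, hker, Ideal.mem_comap]
    exact ⟨fun h => by simpa using sub_mem h (hs r), fun h => by simpa using add_mem (hs r) h⟩
  · simpa using sub_mem (hs r) (hq r)

/-- The value map of the ring of a point. -/
def ptVal (χ : R →ₐ[S] L) : Henz S L ⊗[S] R →ₐ[S] L :=
  Algebra.TensorProduct.lift (Henz.proj S L) χ fun _ _ => Commute.all _ _

variable {L}

theorem ptVal_algebraMap (χ : R →ₐ[S] L) (r : R) : ptVal L χ (algebraMap R (Henz S L ⊗[S] R) r) = χ r := by
  simp [ptVal, Algebra.TensorProduct.right_algebraMap_apply]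

theorem ptVal_ptLam (χ : R →ₐ[S] L) (hχ : ∀ r, χ (lam r) = χ r) (x : Henz S L ⊗[S] R) :
    ptVal L χ (ptLam L lam x) = ptVal L χ x := by
  induction x using TensorProduct.induction_on with
  | zero => simp
  | add x y hx hy => simp only [map_add, hx, hy]
  | tmul a r =>
    rw [show ptLam L lam (a ⊗ₜ r) = a ⊗ₜ lam r from RInvLib.bcLam_tmul (Henz S L) lam a r]
    simp [ptVal, hχ]

include hlam hfix h2 in
/-- A point over a ramified prime is ramified. -/
theorem ptRamified (χ : R →ₐ[S] L) (hχ : ∀ r, χ (lam r) = χ r) [IsAlgClosed L] :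
    ∀ x, ptLam L lam x - x ∈ Ring.jacobson (Henz S L ⊗[S] R) := by
  rcases idem_or_ramified (RInvLib.bcLam_involutive (Henz S L) lam hlam) (isFixedRing_point (L := L) hlam hfix) with
    ⟨e, he, hLe⟩ | hid
  · exfalso
    have h2L : (2 : L) ≠ 0 := by
      have h := h2.map (algebraMap S L)
      rw [map_ofNat] at h
      exact h.ne_zero
    have h1 : ptVal L χ e = 1 - ptVal L χ e := by
      conv_lhs => rw [← ptVal_ptLam (lam := lam) χ hχ, show ptLam L lam e = 1 - e from hLe, map_sub, map_one]
    have h3 : ptVal L χ e * ptVal L χ e = ptVal L χ e := by rw [← map_mul, he]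
    rcases mul_eq_zero.mp (show ptVal L χ e * (ptVal L χ e - 1) = 0 by linear_combination h3) with h | h
    · rw [h, sub_zero] at h1; exact zero_ne_one h1
    · rw [sub_eq_zero.mp h, sub_self] at h1; exact one_ne_zero h1
  · exact hid

include hlam hfix h2 in
/-- The dimension of the symmetric elements at a ramified prime in terms of the sign. -/
theorem finrank_symSpan_of_sign [IsAlgClosed L] (hA : AzInv.IsAzumayaDeg R A n) (hn : 0 < n)
    {q : PrimeSpectrum R} (χ : R →ₐ[S] L) (hker : RingHom.ker χ = q.asIdeal) (hχ : ∀ r, χ (lam r) = χ r)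
    {ε : Henz S L ⊗[S] R} {c : L} (hc : ptVal L χ ε = c) (hcc : c * c = 1)
    {t : AzInv.LamInv R A lam} (h : PtSign hlam L ε t) :
    Module.finrank q.asIdeal.ResidueField (symSpan q.asIdeal.ResidueField t) =
      Module.finrank L (CSALib.signSym L n c) := by
  haveI := hA.1
  obtain ⟨f₀⟩ := exists_split_point (L := L) hlam hfix hA hn
  obtain ⟨k, f, h₀, hu, herm, hf⟩ := h
  obtain rfl := size_eq (RInvLib.bcLam_involutive (Henz S L) lam hlam) (isFixedRing_point hlam hfix) f f₀
  let K := q.asIdeal.ResidueField
  let T := Henz S L ⊗[S] R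
  have hunit : q.asIdeal.primeCompl ≤ (IsUnit.submonoid L).comap χ.toRingHom := fun r hr => by
    refine isUnit_iff_ne_zero.mpr fun h0 => hr ?_
    rw [← hker]
    exact h0
  letI : Algebra R L := χ.toRingHom.toAlgebra
  letI : Algebra K L := (Ideal.ResidueField.lift q.asIdeal χ.toRingHom hker.ge hunit).toAlgebra
  haveI : IsScalarTower R K L := IsScalarTower.of_algebraMap_eq fun r =>
    (Ideal.ResidueField.lift_algebraMap q.asIdeal χ.toRingHom hker.ge hunit r).symm
  letI : Algebra T L := (ptVal L χ).toRingHom.toAlgebra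
  haveI : IsScalarTower R T L := IsScalarTower.of_algebraMap_eq fun r => (ptVal_algebraMap χ r).symm
  have hK : ∀ r, algebraMap R K (lam r) = algebraMap R K r := fun r => by
    rw [← sub_eq_zero, ← map_sub, Ideal.algebraMap_residueField_eq_zero, ← hker]
    simp [RingHom.mem_ker, hχ]
  have h2K : IsUnit (2 : K) := by
    have h := (h2.map (algebraMap S R)).map (algebraMap R K)
    rwa [map_ofNat, map_ofNat] at h
  let e : L ⊗[K] (K ⊗[R] A) ≃ₐ[L] Matrix (Fin k) (Fin k) L :=
    (cancelAlg R K L A).trans
      ((cancelAlg R T L A).symm.trans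
        ((Algebra.TensorProduct.congr (AlgEquiv.refl : L ≃ₐ[L] L) f).trans (matBase T k L)))
  have hS : (h₀.map (algebraMap T L)).transpose = c • h₀.map (algebraMap T L) := by
    ext i j
    have h1 := congrArg (ptVal L χ) (herm.apply j i)
    rw [map_mul, ptVal_ptLam (lam := lam) χ hχ, hc] at h1
    simp only [Matrix.transpose_apply, Matrix.map_apply, Matrix.smul_apply, smul_eq_mul]
    exact h1.symm
  have hSu : IsUnit (h₀.map (algebraMap T L)) := hu.map (algebraMap T L).mapMatrix
  have hcomp : ∀ z, e (LinearMap.baseChange L (sLin hK t) z) =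
      (h₀.map (algebraMap T L))⁻¹ * (e z).transpose * h₀.map (algebraMap T L) := fun z => by
    induction z using TensorProduct.induction_on with
    | zero => simp
    | add x y hx hy =>
      rw [map_add, map_add, hx, hy, map_add, Matrix.transpose_add, Matrix.mul_add, Matrix.add_mul]
    | tmul l z =>
      induction z using TensorProduct.induction_on generalizing l with
      | zero => simp
      | add x y hx hy =>
        rw [TensorProduct.tmul_add, map_add, map_add, hx, hy, map_add, Matrix.transpose_add, Matrix.mul_add,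
          Matrix.add_mul]
      | tmul x a =>
        rw [LinearMap.baseChange_tmul, sLin_tmul]
        simp only [e, AlgEquiv.trans_apply, cancelAlg_tmul,
          cancelAlg_symm_tmul, Algebra.TensorProduct.congr_apply,
          Algebra.TensorProduct.map_tmul, AlgEquiv.coe_toAlgHom, AlgEquiv.coe_refl, id_eq, matBase_tmul]
        have h1 : f (1 ⊗ₜ t a) = adj (ptLam L lam) h₀ (f (1 ⊗ₜ a)) := by
          rw [← hf, ptInv_tmul, map_one]
        change matBase T k L ((x • l) ⊗ₜ[T] f (1 ⊗ₜ[R] t a)) =
          _ * (matBase T k L ((x • l) ⊗ₜ[T] f (1 ⊗ₜ[R] a))).transpose * _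
        rw [matBase_tmul, matBase_tmul, h1, adj, Matrix.transpose_smul, Matrix.mul_smul, Matrix.smul_mul, Matrix.map_mul, Matrix.map_mul]
        congr 2
        congr 1
        · refine (Matrix.inv_eq_left_inv ?_).symm
          rw [← Matrix.map_mul, Matrix.nonsing_inv_mul _ ((Matrix.isUnit_iff_isUnit_det h₀).mp hu),
            Matrix.map_one _ (map_zero _) (map_one _)]
        · ext i j
          exact ptVal_ptLam (lam := lam) χ hχ _
  have hres := CSALib.finrank_eigen (sLin hK t) L k e _ hSu c hS hcc hcomp (1 : K)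
  rw [one_smul, map_one, mul_one, ← symSpan_eq_ker hK h2K] at hres
  exact hres

include hlam hfix in
/-- A ramified point lies over a ramified prime. -/
theorem exists_prime_of_ramified [IsAlgClosed L]
    (hid : ∀ x, ptLam L lam x - x ∈ Ring.jacobson (Henz S L ⊗[S] R)) :
    ∃ q : PrimeSpectrum R, (∀ r, lam r - r ∈ q.asIdeal) ∧
      RingHom.ker (algebraMap S L) = q.asIdeal.comap (algebraMap S R) := by
  let T := Henz S L ⊗[S] R
  have hL := RInvLib.bcLam_involutive (Henz S L) lam hlam
  have hfx := isFixedRing_point (L := L) hlam hfix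
  haveI : IsLocalRing T := RInvLib.isLocalRing_of_forall hL hfx hid
  refine ⟨⟨(IsLocalRing.maximalIdeal T).comap (algebraMap R T), inferInstance⟩, fun r => ?_, ?_⟩
  · rw [Ideal.mem_comap, map_sub, ← ptLam_algebraMap]
    exact RInvLib.mem_of_mem_jacobson (hid _) _
  · ext s
    rw [Ideal.mem_comap, Ideal.mem_comap, IsLocalRing.mem_maximalIdeal, mem_nonunits_iff, RingHom.mem_ker,
      show algebraMap R T (algebraMap S R s) = algebraMap (Henz S L) T (algebraMap S (Henz S L) s) by
        rw [Algebra.TensorProduct.right_algebraMap_apply, Algebra.TensorProduct.algebraMap_apply,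
          Algebra.algebraMap_self, RingHom.id_apply, Algebra.algebraMap_eq_smul_one, Algebra.algebraMap_eq_smul_one,
          TensorProduct.tmul_smul, TensorProduct.smul_tmul']]
    constructor
    · intro h hu
      obtain ⟨a, ha⟩ := exists_fixed_unit hL hfx ((hfx.2 _).mpr ⟨_, rfl⟩) hu
      have h1 := (hfx.1 ha) ▸ a.isUnit
      have h2 := h1.map (Henz.proj S L)
      rw [AlgHom.commutes, h] at h2
      exact not_isUnit_zero h2
    · intro h
      by_contra h0
      refine h (IsUnit.map _ ?_)
      rw [Henz.isUnit_iff, AlgHom.commutes]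
      exact isUnit_iff_ne_zero.mpr h0

end

end Groth.Agent.AzInvLib
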