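import Groth.Agent.AzInvLib.Fibre

/-! Azumaya algebras over rings with involution are split etale locally on the fixed ring. -/

namespace Groth.Agent.AzInvLib

open scoped TensorProduct
open Hensel

attribute [local instance] Algebra.TensorProduct.rightAlgebra

noncomputable section

universe u v w w' z

/-- Base change of an Azumaya algebra of given degree. -/
theorem isAzumayaDeg_baseChange {R : Type v} [CommRing R] {T : Type z} [CommRing T] [Algebra R T]
    {A : Type w} [Ring A] [Algebra R A] {n : ℕ} (hA : AzInv.IsAzumayaDeg R A n) :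
    AzInv.IsAzumayaDeg T (T ⊗[R] A) n := by
  haveI := hA.1
  exact ⟨AzumayaX.isAzumaya_baseChange R T A, fun p => by rw [Module.rankAtStalk_baseChange]; exact hA.2 _⟩

/-- An Azumaya algebra over a finite product of strictly henselian local rings is split. -/
theorem exists_split_pi {T : Type z} [CommRing T] {ι : Type*} [Finite ι] {C : ι → Type z}
    [∀ i, CommRing (C i)] [∀ i, HenselianLocalRing (C i)]
    (hC : ∀ i, IsSepClosed (IsLocalRing.ResidueField (C i))) (e : T ≃+* ∀ i, C i)
    {A : Type w} [Ring A] [Algebra T A] {n : ℕ} (hA : AzInv.IsAzumayaDeg T A n) (hn : 0 < n) :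
    Nonempty (A ≃ₐ[T] Matrix (Fin n) (Fin n) T) := by
  classical
  haveI := hA.1
  haveI : Small.{z} A := Module.Finite.small (R := T) A
  let σ := Shrink.algEquiv T A
  haveI : IsAzumaya T (Shrink.{z} A) := IsAzumaya.of_AlgEquiv T A _ σ.symm
  have hrk : ∀ p : PrimeSpectrum T, Module.rankAtStalk (R := T) (Shrink.{z} A) p = n ^ 2 := fun p => by
    rw [Module.rankAtStalk_eq_of_equiv σ.toLinearEquiv]; exact hA.2 p
  letI : ∀ i, Algebra T (C i) := fun i => ((Pi.evalRingHom C i).comp e.toRingHom).toAlgebra
  have hloc : ∀ i, ∃ g : Shrink.{z} A →ₐ[T] Matrix (Fin n) (Fin n) (C i), True := fun i => by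
    haveI := hC i
    obtain ⟨f⟩ := exists_split_local (T := C i) (A := C i ⊗[T] Shrink.{z} A)
      (isAzumayaDeg_baseChange ⟨inferInstance, hrk⟩) hn
    exact ⟨(f.toAlgHom.restrictScalars T).comp Algebra.TensorProduct.includeRight, trivial⟩
  choose g _ using hloc
  let E : T ≃ₐ[T] ∀ i, C i := AlgEquiv.ofRingEquiv (f := e) fun x => funext fun i => rfl
  let G₀ : Shrink.{z} A →ₐ[T] Matrix (Fin n) (Fin n) (∀ i, C i) :=
    { toFun := fun a => Matrix.of fun r c i => g i a r c
      map_one' := by
        ext r c i
        show g i 1 r c = _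
        rw [map_one]
        by_cases h : r = c
        · subst h; simp
        · simp [Matrix.one_apply_ne h]
      map_mul' := fun a b => by
        cases nonempty_fintype ι
        ext r c i
        show g i (a * b) r c = _
        rw [map_mul]
        simp only [Matrix.mul_apply]
        exact (Finset.sum_apply i Finset.univ fun x j => g j a r x * g j b x c).symm
      map_zero' := by ext r c i; simp
      map_add' := fun a b => by ext r c i; simp
      commutes' := fun x => by
        ext r c i
        show g i (algebraMap T _ x) r c = _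
        rw [AlgHom.commutes]
        by_cases h : r = c
        · subst h; simp [Matrix.algebraMap_matrix_apply]
        · simp [Matrix.algebraMap_matrix_apply, h] }
  let G : Shrink.{z} A →ₐ[T] Matrix (Fin n) (Fin n) T := E.symm.toAlgHom.mapMatrix.comp G₀
  let Φ : T ⊗[T] Shrink.{z} A →ₐ[T] Matrix (Fin n) (Fin n) T :=
    Algebra.TensorProduct.lift (Algebra.ofId T _) G fun t _ => Algebra.commutes t _
  exact ⟨σ.symm.trans ((Algebra.TensorProduct.lid T _).symm.trans
    (AlgEquiv.ofBijective Φ (AzumayaX.algHom_matrix_bijective' hrk hn T Φ)))⟩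

variable {S : Type u} [CommRing S] {R : Type v} [CommRing R] [Algebra S R] {lam : R ≃ₐ[S] R}
  {L : Type u} [Field L] [Algebra S L] {A : Type w} [Ring A] [Algebra R A] {n : ℕ}

theorem isFixedRing_point (hlam : ∀ r, lam (lam r) = r) (hfix : RInv.IsFixedRing S R lam.toRingEquiv) :
    RInv.IsFixedRing (Henz S L) (Henz S L ⊗[S] R) (RInvLib.bcLam (Henz S L) lam).toRingEquiv :=
  RInvLib.isFixedRing_baseChange (Henz S L) lam hlam hfix (Or.inl inferInstance)

/-- Over a geometric point an Azumaya algebra is split. -/
theorem exists_split_point [IsAlgClosed L] (hlam : ∀ r, lam (lam r) = r)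
    (hfix : RInv.IsFixedRing S R lam.toRingEquiv) (hA : AzInv.IsAzumayaDeg R A n) (hn : 0 < n) :
    Nonempty ((Henz S L ⊗[S] R) ⊗[R] A ≃ₐ[Henz S L ⊗[S] R] Matrix (Fin n) (Fin n) (Henz S L ⊗[S] R)) := by
  obtain ⟨ι, _, C, _, _, hC, ⟨e⟩⟩ := S15578.result (Henz S L) (Henz S L ⊗[S] R)
    (RInvLib.bcLam (Henz S L) lam).toRingEquiv (RInvLib.bcLam_involutive _ lam hlam) (isFixedRing_point hlam hfix)
  exact exists_split_pi hC e (isAzumayaDeg_baseChange hA) hn

end

end Groth.Agent.AzInvLib
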