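import Groth.Agent.AzInvLib.Types

/-! Standard involutions of matrix algebras. -/

namespace Groth.Agent.AzInvLib

open scoped TensorProduct
open Hensel Matrix

attribute [local instance] Algebra.TensorProduct.rightAlgebra

noncomputable section

universe u v w

variable {S : Type u} [CommRing S] {R : Type v} [CommRing R] [Algebra S R] {lam : R ≃ₐ[S] R}
  (hlam : ∀ r, lam (lam r) = r) (L : Type u) [Field L] [Algebra S L] {n : ℕ}

theorem ptLam_algebraMap (r : R) :
    ptLam L lam (algebraMap R (Henz S L ⊗[S] R) r) = algebraMap R (Henz S L ⊗[S] R) (lam r) := by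
  simp only [Algebra.TensorProduct.right_algebraMap_apply]
  exact RInvLib.bcLam_tmul (Henz S L) lam 1 r

/-- The sign of a twisted transpose. -/
theorem ptSign_transpose_conj (w : (Matrix (Fin n) (Fin n) R)ˣ) (e : R)
    (hw : AzInv.LamInv.transpose lam (Fin n) hlam (↑w : Matrix (Fin n) (Fin n) R) = e • (↑w : Matrix (Fin n) (Fin n) R))
    (he : lam e * e = 1) :
    PtSign hlam L (algebraMap R (Henz S L ⊗[S] R) e)
      ((AzInv.LamInv.transpose lam (Fin n) hlam).conj w e hw he) := by
  have hinv : e • AzInv.LamInv.transpose lam (Fin n) hlam (↑w⁻¹ : Matrix (Fin n) (Fin n) R) = ↑w⁻¹ := by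
    have h1 := (AzInv.LamInv.transpose lam (Fin n) hlam).map_units_inv w
    rw [hw, Matrix.mul_smul, ← Matrix.smul_mul] at h1
    calc _ = (e • AzInv.LamInv.transpose lam (Fin n) hlam (↑w⁻¹ : Matrix (Fin n) (Fin n) R)) * ↑w * ↑w⁻¹ := by
          rw [Matrix.mul_assoc, Units.mul_inv, Matrix.mul_one]
      _ = ↑w⁻¹ := by rw [h1, Matrix.one_mul]
  let φ := algebraMap R (Henz S L ⊗[S] R)
  have hWW : (↑w : Matrix (Fin n) (Fin n) R).map φ * (↑w⁻¹ : Matrix (Fin n) (Fin n) R).map φ = 1 := by
    rw [← Matrix.map_mul, Units.mul_inv, Matrix.map_one _ (map_zero φ) (map_one φ)]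
  have hWW' : (↑w⁻¹ : Matrix (Fin n) (Fin n) R).map φ * (↑w : Matrix (Fin n) (Fin n) R).map φ = 1 := by
    rw [← Matrix.map_mul, Units.inv_mul, Matrix.map_one _ (map_zero φ) (map_one φ)]
  refine hasSign_of _ (matBase R n (Henz S L ⊗[S] R)) ((↑w⁻¹ : Matrix (Fin n) (Fin n) R).map φ)
    ⟨⟨_, _, hWW', hWW⟩, rfl⟩ (RInvLib.isHerm_of_apply fun i j => ?_) fun a => ?_
  · have h := congrFun (congrFun hinv i) j
    rw [Matrix.smul_apply, smul_eq_mul, AzInv.LamInv.transpose_apply] at h
    simp only [Matrix.map_apply]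
    rw [ptLam_algebraMap, ← map_mul, h]
  · induction a using TensorProduct.induction_on with
    | zero => simp [adj]
    | add x y hx hy =>
      simp only [AzInv.LamInv.map_add, map_add, hx, hy]
      rw [adj, adj, adj, Matrix.map_add _ (map_add _), transpose_add, Matrix.mul_add, Matrix.add_mul]
    | tmul x M =>
      rw [ptInv_tmul, matBase_tmul, matBase_tmul, AzInv.LamInv.conj_apply, Matrix.map_mul, Matrix.map_mul, adj,
        Matrix.inv_eq_left_inv hWW]
      have hM : ((x • M.map φ).map (ptLam L lam)).transpose =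
          ptLam L lam x • (AzInv.LamInv.transpose lam (Fin n) hlam M).map φ := by
        ext i j
        simp only [Matrix.transpose_apply, Matrix.map_apply, Matrix.smul_apply, smul_eq_mul, map_mul,
          AzInv.LamInv.transpose_apply, φ, ptLam_algebraMap]
      rw [hM, Matrix.mul_smul, Matrix.smul_mul]

/-- The splitting of a matrix algebra. -/
theorem split_matrix_self :
    Nonempty ((Henz S L ⊗[S] R) ⊗[R] Matrix (Fin n) (Fin n) R ≃ₐ[Henz S L ⊗[S] R]
      Matrix (Fin n) (Fin n) (Henz S L ⊗[S] R)) :=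
  ⟨matBase R n (Henz S L ⊗[S] R)⟩

end

end Groth.Agent.AzInvLib
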