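import Groth.Agent.AzInvLib.Classify

/-! Types of involutions. -/

namespace Groth.Agent.AzInvLib

open scoped TensorProduct
open Hensel

noncomputable section

universe u v w w'

variable {S : Type u} [CommRing S] {R : Type v} [CommRing R] [Algebra S R] {lam : R ≃ₐ[S] R}
  (hlam : ∀ r, lam (lam r) = r) (hfix : RInv.IsFixedRing S R lam.toRingEquiv)
  {A : Type w} [Ring A] [Algebra S A] [Algebra R A] [IsScalarTower S R A]
  {A' : Type w'} [Ring A'] [Algebra S A'] [Algebra R A'] [IsScalarTower S R A'] {n n' : ℕ}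

theorem projective_matrix [Module.Projective R A] (m : ℕ) : Module.Projective R (Matrix (Fin m) (Fin m) A) :=
  haveI : Module.Projective R (Fin m → A) := Module.Projective.of_equiv
    (DFinsupp.linearEquivFunOnFintype (R := R) (M := fun _ : Fin m => A))
  haveI : Module.Projective R (Fin m → Fin m → A) := Module.Projective.of_equiv
    (DFinsupp.linearEquivFunOnFintype (R := R) (M := fun _ : Fin m => Fin m → A))
  Module.Projective.of_equiv (Matrix.ofLinearEquiv R (m := Fin m) (n := Fin m) (α := A))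

/-- Isomorphisms at all points give a local isomorphism. -/
theorem locIso_of_points [Module.Finite R A] [Module.Projective R A] [Module.Finite R A'] [Module.Projective R A']
    (t : AzInv.LamInv R A lam) (t' : AzInv.LamInv R A' lam)
    (h : ∀ (L : Type u) [Field L] [Algebra S L], IsAlgClosed L →
      ∃ e : Henz S L ⊗[S] A ≃ₐ[Henz S L] Henz S L ⊗[S] A',
        (∀ (r : R) z, e (rho A _ r * z) = rho A' _ r * e z) ∧
          ∀ z, e ((t.linS S lam).baseChange _ z) = (t'.linS S lam).baseChange _ (e z)) :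
    AzInv.LocIsoEt S lam t t' :=
  exists_cover_iso lam (t.linS S lam) (t'.linS S lam) t.map_smul t'.map_smul h

section Point

variable {L : Type u} [Field L] [Algebra S L]

theorem good_cases {N : ℕ} {ε : Henz S L ⊗[S] R} (hg : Good (ptLam L lam) (Fin N) ε) :
    ε = 1 ∨ (ε = -1 ∧ (∀ x, ptLam L lam x - x ∈ Ring.jacobson (Henz S L ⊗[S] R)) ∧
      IsUnit (2 : Henz S L ⊗[S] R)) := by
  rcases hg with ⟨-, h⟩ | ⟨hid, ⟨h2, h | h⟩ | ⟨-, h⟩⟩
  · exact Or.inl h
  · exact Or.inl h
  · exact Or.inr ⟨h, hid, h2⟩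
  · exact Or.inl h

theorem good_transfer {N M : ℕ} {ε : Henz S L ⊗[S] R} (hc : PtCase L lam M) (hg : Good (ptLam L lam) (Fin N) ε) :
    Good (ptLam L lam) (Fin M) ε := by
  rcases good_cases hg with rfl | ⟨rfl, hid, h2⟩
  · rcases hc with he | ⟨hid, h2 | ho⟩
    · exact Or.inl ⟨he, rfl⟩
    · exact Or.inr ⟨hid, Or.inl ⟨h2, Or.inl rfl⟩⟩
    · exact Or.inr ⟨hid, Or.inr ⟨by rwa [Fintype.card_fin], rfl⟩⟩
  · exact Or.inr ⟨hid, Or.inl ⟨h2, Or.inr rfl⟩⟩

variable [IsAlgClosed L]

include hlam hfix in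
theorem not_ramified_of_quad (hq : RInv.IsQuadEtale S R)
    (hid : ∀ x, ptLam L lam x - x ∈ Ring.jacobson (Henz S L ⊗[S] R)) : False := by
  obtain ⟨hfin, hproj, hunr, hrk⟩ := hq
  refine RInvLib.not_isQuadEtale_of_forall (RInvLib.bcLam_involutive (Henz S L) lam hlam)
    (isFixedRing_point (L := L) hlam hfix) hid ⟨inferInstance, inferInstance, inferInstance, fun p => ?_⟩
  rw [Module.rankAtStalk_baseChange, hrk]

include hfix in
theorem even_of_sign_neg (hsq : PtSquares (S := S) L)
    (hid : ∀ x, ptLam L lam x - x ∈ Ring.jacobson (Henz S L ⊗[S] R)) (h2 : IsUnit (2 : Henz S L ⊗[S] R))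
    (hA : AzInv.IsAzumayaDeg R A n) (hn : 0 < n) {t : AzInv.LamInv R A lam} (h : PtSign hlam L (-1) t) : Even n := by
  letI : Algebra R (Henz S L ⊗[S] R) := Algebra.TensorProduct.rightAlgebra
  obtain ⟨f₀⟩ := exists_split_point (L := L) hlam hfix hA hn
  obtain ⟨k, f, h₀, hu, herm, -⟩ := h
  obtain rfl := size_eq (RInvLib.bcLam_involutive (Henz S L) lam hlam) (isFixedRing_point hlam hfix) f f₀
  obtain ⟨j, e, -⟩ := exists_std_neg (RInvLib.bcLam_involutive (Henz S L) lam hlam) (isFixedRing_point hlam hfix)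
    hsq hid h2 hu herm
  have := Fintype.card_congr e
  simp only [Fintype.card_prod, Fintype.card_fin] at this
  exact ⟨j, by omega⟩

end Point

include hlam hfix in
/-- Involutions of the same type and degree are locally isomorphic. -/
theorem locIso_of_sameType
    (hsq : ∀ (L : Type u) [Field L] [Algebra S L], IsAlgClosed L → PtSquares (S := S) L)
    (hn : 0 < n) (hcond : IsUnit (2 : S) ∨ RInv.IsQuadEtale S R ∨ Odd n)
    (hA : AzInv.IsAzumayaDeg R A n) (hA' : AzInv.IsAzumayaDeg R A' n)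
    {t : AzInv.LamInv R A lam} {t' : AzInv.LamInv R A' lam} (h : AzInv.SameType S lam t t') :
    AzInv.LocIsoEt S lam t t' := by
  haveI := hA.1
  haveI := hA'.1
  refine locIso_of_points t t' fun L _ _ hL => ?_
  letI : Algebra R (Henz S L ⊗[S] R) := Algebra.TensorProduct.rightAlgebra
  obtain ⟨m, m', hm, hm', hiso⟩ := h
  have hs := exists_split_point (L := L) hlam hfix hA hn
  have hs' := exists_split_point (L := L) hlam hfix hA' hn
  obtain ⟨ε, hg, hε⟩ := exists_ptSign hlam hfix hn hs (ptCase hlam hfix L hcond) t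
  obtain ⟨ε', hg', hε'⟩ := exists_ptSign hlam hfix hn hs' (ptCase hlam hfix L hcond) t'
  have e1 : PtSign hlam L ε (t'.matrix (Fin m')) := ptSign_of_locIso hlam hiso (ptSign_matrix hlam L hε m)
  have e2 : PtSign hlam L ε' (t'.matrix (Fin m')) := ptSign_matrix hlam L hε' m'
  have heq : ε = ε' := by
    rcases good_cases hg with rfl | ⟨rfl, hid, h2⟩ <;> rcases good_cases hg' with rfl | ⟨rfl, hid', h2'⟩
    · rfl
    · exact (ptSign_unique hlam hfix hid' h2' (Nat.mul_pos hm' hn) (split_matrix L hs' m') e1 e2).elim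
    · exact (ptSign_unique hlam hfix hid h2 (Nat.mul_pos hm' hn) (split_matrix L hs' m') e2 e1).elim
    · rfl
  subst heq
  exact exists_iso_point hlam hfix (hsq L hL) hg hs hs' hε hε'

include hlam hfix in
/-- Involutions with the same signs at all points have the same type. -/
theorem sameType_of_signs
    (hsq : ∀ (L : Type u) [Field L] [Algebra S L], IsAlgClosed L → PtSquares (S := S) L)
    (hn : 0 < n) (hn' : 0 < n') (hA : AzInv.IsAzumayaDeg R A n)
    [Module.Finite R A'] [Module.Projective R A']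
    (hsplit : ∀ (L : Type u) [Field L] [Algebra S L] [IsAlgClosed L],
      letI : Algebra R (Henz S L ⊗[S] R) := Algebra.TensorProduct.rightAlgebra
      Nonempty ((Henz S L ⊗[S] R) ⊗[R] A' ≃ₐ[Henz S L ⊗[S] R] Matrix (Fin n') (Fin n') (Henz S L ⊗[S] R)))
    {t : AzInv.LamInv R A lam} {t' : AzInv.LamInv R A' lam}
    (h : ∀ (L : Type u) [Field L] [Algebra S L] [IsAlgClosed L],
      ∃ ε, Good (ptLam L lam) (Fin (n' * n)) ε ∧ PtSign hlam L ε t ∧ PtSign hlam L ε t') :
    AzInv.SameType S lam t t' := by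
  haveI := hA.1
  haveI := projective_matrix (R := R) (A := A) n'
  haveI := projective_matrix (R := R) (A := A') n
  haveI : Module.Finite R (Matrix (Fin n') (Fin n') A) := Module.Finite.equiv (Matrix.ofLinearEquiv R (m := Fin n') (n := Fin n') (α := A))
  haveI : Module.Finite R (Matrix (Fin n) (Fin n) A') := Module.Finite.equiv (Matrix.ofLinearEquiv R (m := Fin n) (n := Fin n) (α := A'))
  refine ⟨n', n, hn', hn, locIso_of_points _ _ fun L _ _ hL => ?_⟩
  letI : Algebra R (Henz S L ⊗[S] R) := Algebra.TensorProduct.rightAlgebra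
  obtain ⟨ε, hg, hε, hε'⟩ := h L
  refine exists_iso_point hlam hfix (hsq L hL) hg (split_matrix L (exists_split_point (L := L) hlam hfix hA hn) n') ?_
    (ptSign_matrix hlam L hε n') (ptSign_matrix hlam L hε' n)
  rw [Nat.mul_comm n' n]
  exact split_matrix L (hsplit L) n

theorem split_self (L : Type u) [Field L] [Algebra S L] :
    letI : Algebra R (Henz S L ⊗[S] R) := Algebra.TensorProduct.rightAlgebra
    Nonempty ((Henz S L ⊗[S] R) ⊗[R] R ≃ₐ[Henz S L ⊗[S] R] Matrix (Fin 1) (Fin 1) (Henz S L ⊗[S] R)) := by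
  letI : Algebra R (Henz S L ⊗[S] R) := Algebra.TensorProduct.rightAlgebra
  exact ⟨(Algebra.TensorProduct.rid R (Henz S L ⊗[S] R) (Henz S L ⊗[S] R)).trans
    (AlgEquiv.ofBijective (Algebra.ofId _ (Matrix (Fin 1) (Fin 1) (Henz S L ⊗[S] R)))
      ⟨fun a b h => by simpa [Algebra.ofId_apply, Matrix.algebraMap_matrix_apply] using congrFun (congrFun h 0) 0,
        fun M => ⟨M 0 0, by
          ext i j; rw [Subsingleton.elim i 0, Subsingleton.elim j 0]
          simp [Algebra.ofId_apply, Matrix.algebraMap_matrix_apply]⟩⟩)⟩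

end

end Groth.Agent.AzInvLib
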