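import Groth.Agent.AzInvLib.Inner
import Groth.Agent.AzInvLib.Split
import Mathlib.RingTheory.Flat.FaithfullyFlat.Basic

/-! Automorphisms commuting with an involution come locally from unitary elements. -/

namespace Groth.Agent.AzInvLib

open scoped TensorProduct

attribute [local instance] Algebra.TensorProduct.rightAlgebra

noncomputable section

universe u v w

variable {S : Type u} [CommRing S] {R : Type v} [CommRing R] [Algebra S R] {lam : R ≃ₐ[S] R}
  {A : Type w} [Ring A] [Algebra S A] [Algebra R A] [IsScalarTower S R A]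

theorem bc_mul (hlam : ∀ r, lam (lam r) = r) (t : AzInv.LamInv R A lam) (B : Type u) [CommRing B] [Algebra S B]
    (x y : B ⊗[S] A) : t.bc S lam B (x * y) = t.bc S lam B y * t.bc S lam B x := by
  apply (bridge (R := R) B A).injective
  rw [bridge_bc lam hlam, map_mul (bridge B A), AzInv.LamInv.map_mul, map_mul (bridge B A), bridge_bc lam hlam,
    bridge_bc lam hlam]

theorem bc_bc (t : AzInv.LamInv R A lam) (B : Type u) [CommRing B] [Algebra S B] (x : B ⊗[S] A) :
    t.bc S lam B (t.bc S lam B x) = x := by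
  induction x using TensorProduct.induction_on with
  | zero => simp
  | add x y hx hy => rw [map_add, map_add, hx, hy]
  | tmul b a => simp

/-- The norm of an element implementing an automorphism commuting with the involution is a scalar from the base. -/
theorem exists_norm_scalar (hlam : ∀ r, lam (lam r) = r) (hfix : RInv.IsFixedRing S R lam.toRingEquiv)
    [IsAzumaya R A] (t : AzInv.LamInv R A lam) (ψ : A ≃ₐ[R] A) (hψ : AzInv.IsInvHom t t ψ)
    (B : Type u) [CommRing B] [Algebra S B] [Module.Flat S B] (u : (B ⊗[S] A)ˣ)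
    (hu : ∀ x : B ⊗[S] A, Algebra.TensorProduct.congr (AlgEquiv.refl : B ≃ₐ[B] B) (ψ.restrictScalars S) x =
      ↑u * x * ↑u⁻¹) :
    ∃ d : Bˣ, t.bc S lam B (↑u : B ⊗[S] A) * ↑u = algebraMap B (B ⊗[S] A) d := by
  let τ := t.bc S lam B
  have hτ1 : τ 1 = 1 := by simp [τ, Algebra.TensorProduct.one_def]
  have hτu : τ ↑u * τ ↑u⁻¹ = 1 := by rw [← bc_mul hlam, Units.inv_mul, hτ1]
  have hτu' : τ ↑u⁻¹ * τ ↑u = 1 := by rw [← bc_mul hlam, Units.mul_inv, hτ1]
  have hcomm : ∀ x, Algebra.TensorProduct.congr (AlgEquiv.refl : B ≃ₐ[B] B) (ψ.restrictScalars S) (τ x) =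
      τ (Algebra.TensorProduct.congr (AlgEquiv.refl : B ≃ₐ[B] B) (ψ.restrictScalars S) x) := fun x => by
    induction x using TensorProduct.induction_on with
    | zero => simp
    | add x y hx hy => simp only [map_add, hx, hy]
    | tmul b a => simp [τ, hψ a]
  obtain ⟨z, hz⟩ : ∃ z, z = τ ↑u * ↑u := ⟨_, rfl⟩
  have hcent : ∀ y, z * y = y * z := fun y => by
    have e := hcomm (τ y)
    rw [bc_bc, hu, hu, bc_mul hlam, bc_mul hlam, bc_bc] at e
    calc z * y = τ ↑u * (↑u * y * ↑u⁻¹) * ↑u := by rw [hz]; simp [mul_assoc]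
      _ = (τ ↑u * τ ↑u⁻¹) * y * (τ ↑u * ↑u) := by rw [e]; simp [mul_assoc]; rfl
      _ = y * z := by rw [hτu, one_mul, hz]
  haveI : IsAzumaya (B ⊗[S] R) ((B ⊗[S] R) ⊗[R] A) := AzumayaX.isAzumaya_baseChange R _ A
  obtain ⟨c, hc⟩ := AzumayaX.exists_algebraMap_of_central (R := B ⊗[S] R) (bridge B A z) fun y => by
    obtain ⟨y, rfl⟩ := (bridge (R := R) B A).surjective y
    rw [← map_mul, hcent, map_mul]
  have hinj : Function.Injective (algebraMap (B ⊗[S] R) ((B ⊗[S] R) ⊗[R] A)) :=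
    FaithfulSMul.algebraMap_injective _ _
  have hzτ : τ z = z := by rw [hz, bc_mul hlam, bc_bc]
  have hLc : RInvLib.bcLam B lam c = c := by
    apply hinj
    have e := bridge_bc lam hlam t z
    rw [show t.bc S lam B z = z from hzτ, hc, AzInv.LamInv.map_algebraMap] at e
    exact e.symm
  obtain ⟨d, rfl⟩ := ((RInvLib.isFixedRing_baseChange B lam hlam hfix (Or.inl inferInstance)).2 c).mp hLc
  obtain ⟨c', hc'⟩ := AzumayaX.exists_algebraMap_of_central (R := B ⊗[S] R)
    (bridge B A ((↑u⁻¹ : B ⊗[S] A) * τ (↑u⁻¹ : B ⊗[S] A))) fun y => by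
      obtain ⟨y, rfl⟩ := (bridge (R := R) B A).surjective y
      rw [← map_mul, ← map_mul]
      congr 1
      have e1 : ↑u⁻¹ * τ ↑u⁻¹ * z = 1 := by rw [hz, mul_assoc, ← mul_assoc (τ _), hτu', one_mul, Units.inv_mul]
      have e2 : z * (↑u⁻¹ * τ ↑u⁻¹) = 1 := by rw [hz, mul_assoc, ← mul_assoc (↑u : B ⊗[S] A), Units.mul_inv, one_mul, hτu]
      calc ↑u⁻¹ * τ ↑u⁻¹ * y = ↑u⁻¹ * τ ↑u⁻¹ * (y * (z * (↑u⁻¹ * τ ↑u⁻¹))) := by rw [e2, mul_one]
        _ = (↑u⁻¹ * τ ↑u⁻¹ * z) * y * (↑u⁻¹ * τ ↑u⁻¹) := by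
          rw [← mul_assoc y, ← hcent]; simp only [mul_assoc]
        _ = y * (↑u⁻¹ * τ ↑u⁻¹) := by rw [e1, one_mul]
  have hcc : algebraMap B (B ⊗[S] R) d * c' = 1 := by
    apply hinj
    rw [map_mul, ← hc, ← hc', map_one, ← map_mul, hz, mul_assoc, ← mul_assoc (↑u : B ⊗[S] A), Units.mul_inv,
      one_mul, hτu, map_one]
  have hLc' : RInvLib.bcLam B lam c' = c' := by
    have := congrArg (RInvLib.bcLam B lam) hcc
    rw [map_mul, map_one, AlgEquiv.commutes] at this
    calc RInvLib.bcLam B lam c' = (algebraMap B (B ⊗[S] R) d * c') * RInvLib.bcLam B lam c' := by rw [hcc, one_mul]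
      _ = c' * (algebraMap B (B ⊗[S] R) d * RInvLib.bcLam B lam c') := by ring
      _ = c' := by rw [this, mul_one]
  obtain ⟨d', rfl⟩ := ((RInvLib.isFixedRing_baseChange B lam hlam hfix (Or.inl inferInstance)).2 c').mp hLc'
  have hdd : d * d' = 1 := (RInvLib.isFixedRing_baseChange B lam hlam hfix (Or.inl inferInstance)).1
    (by rw [map_mul, map_one]; exact hcc)
  refine ⟨Units.mkOfMulEqOne d d' hdd, (bridge (R := R) B A).injective ?_⟩
  rw [← hz, hc, Units.val_mkOfMulEqOne, bridge_algebraMap]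
  rfl

end

end Groth.Agent.AzInvLib
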